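import Mathlib.RingTheory.GradedAlgebra.Radical
import Mathlib.RingTheory.Finiteness.Basic

/-!
Homogeneous prime avoidance in positive degree.
-/

set_option autoImplicit false

universe u v

open DirectSum SetLike

namespace Groth.Agent.FlatCI

variable {R : Type u} {A : Type v} [CommRing R] [CommRing A] [Algebra R A] (𝒜 : ℕ → Submodule R A)
  [GradedAlgebra 𝒜]

theorem exists_homogeneous_notMem {P Q : Ideal A} (hQ : Q.IsHomogeneous 𝒜) (h : ¬ Q ≤ P) :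
    ∃ (d : ℕ) (a : A), a ∈ 𝒜 d ∧ a ∈ Q ∧ a ∉ P := by
  classical
  obtain ⟨x, hxQ, hxP⟩ := SetLike.not_le_iff_exists.mp h
  by_contra hc
  refine hxP ?_
  rw [← DirectSum.sum_support_decompose 𝒜 x]
  refine Ideal.sum_mem _ fun d _ => ?_
  by_contra hd
  exact hc ⟨d, _, SetLike.coe_mem _, hQ d hxQ, hd⟩

/-- Prime avoidance by a homogeneous element of positive degree. -/
theorem exists_homogeneous_avoid (I : Ideal A) (T : Finset (Ideal A)) (hT : ∀ Q ∈ T, Q.IsPrime)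
    (h : ∀ Q ∈ T, ∃ (d : ℕ) (a : A), 0 < d ∧ a ∈ 𝒜 d ∧ a ∈ I ∧ a ∉ Q) :
    ∃ (d : ℕ) (f : A), 0 < d ∧ f ∈ 𝒜 d ∧ f ∈ I ∧ ∀ Q ∈ T, f ∉ Q := by
  classical
  let core : Ideal A → Ideal A := fun Q => (Q.homogeneousCore 𝒜).toIdeal
  let T' := T.image core
  let T₀ := T'.filter fun Q => ∀ Q' ∈ T', Q ≤ Q' → Q = Q'
  have hT' : ∀ Q ∈ T', Q.IsPrime ∧ Q.IsHomogeneous 𝒜 := fun Q hQ => by
    obtain ⟨Q₁, hQ₁, rfl⟩ := Finset.mem_image.mp hQ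
    exact ⟨(hT Q₁ hQ₁).homogeneousCore, HomogeneousIdeal.isHomogeneous _⟩
  have ha : ∀ Q ∈ T₀, ∃ (d : ℕ) (a : A), 0 < d ∧ a ∈ 𝒜 d ∧ a ∈ I ∧ a ∉ Q := fun Q hQ => by
    obtain ⟨Q₁, hQ₁, rfl⟩ := Finset.mem_image.mp (Finset.mem_filter.mp hQ).1
    obtain ⟨d, a, hd, hda, haI, haQ⟩ := h Q₁ hQ₁
    exact ⟨d, a, hd, hda, haI, fun hc => haQ (Ideal.toIdeal_homogeneousCore_le 𝒜 Q₁ hc)⟩
  choose! d a hd hda haI haQ using ha
  have hb : ∀ Q ∈ T₀, ∀ Q' ∈ T₀.erase Q, ∃ (e : ℕ) (b : A), b ∈ 𝒜 e ∧ b ∈ Q' ∧ b ∉ Q := by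
    intro Q hQ Q' hQ'
    obtain ⟨hne, hQ'₀⟩ := Finset.mem_erase.mp hQ'
    refine exists_homogeneous_notMem 𝒜 (hT' Q' (Finset.mem_filter.mp hQ'₀).1).2 fun hle => hne ?_
    exact (Finset.mem_filter.mp hQ'₀).2 Q (Finset.mem_filter.mp hQ).1 hle
  choose! e b heb hbQ' hbQ using hb
  let c : Ideal A → A := fun Q => a Q * ∏ Q' ∈ T₀.erase Q, b Q Q'
  let E : Ideal A → ℕ := fun Q => d Q + ∑ Q' ∈ T₀.erase Q, e Q Q'
  have hE : ∀ Q ∈ T₀, 0 < E Q := fun Q hQ => Nat.add_pos_left (hd Q hQ) _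
  have hc : ∀ Q ∈ T₀, c Q ∈ 𝒜 (E Q) := fun Q hQ =>
    SetLike.mul_mem_graded (hda Q hQ) (SetLike.prod_mem_graded 𝒜 _ _ fun Q' hQ' => heb Q hQ Q' hQ')
  let L := ∏ Q ∈ T₀, E Q
  have hL : 0 < L := Finset.prod_pos hE
  let f := ∑ Q ∈ T₀, c Q ^ (L / E Q)
  have hdvd : ∀ Q ∈ T₀, E Q ∣ L := fun Q hQ => Finset.dvd_prod_of_mem _ hQ
  have hk : ∀ Q ∈ T₀, 0 < L / E Q := fun Q hQ =>
    Nat.div_pos (Nat.le_of_dvd hL (hdvd Q hQ)) (hE Q hQ)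
  have hf₀ : ∀ Q ∈ T₀, f ∉ Q := by
    intro Q hQ hfQ
    have hQp := (hT' Q (Finset.mem_filter.mp hQ).1).1
    have hrest : ∑ Q' ∈ T₀.erase Q, c Q' ^ (L / E Q') ∈ Q := Ideal.sum_mem _ fun Q' hQ' => by
      obtain ⟨hne, hQ'₀⟩ := Finset.mem_erase.mp hQ'
      refine Ideal.pow_mem_of_mem _ (Ideal.mul_mem_left _ _ ?_) _ (hk Q' hQ'₀)
      exact Ideal.prod_mem _ (Finset.mem_erase.mpr ⟨hne.symm, hQ⟩) (hbQ' Q' hQ'₀ Q (Finset.mem_erase.mpr ⟨hne.symm, hQ⟩))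
    have h1 : c Q ^ (L / E Q) ∈ Q := by
      have hsplit : f = c Q ^ (L / E Q) + ∑ Q' ∈ T₀.erase Q, c Q' ^ (L / E Q') :=
        (Finset.add_sum_erase T₀ (fun Q' => c Q' ^ (L / E Q')) hQ).symm
      rw [hsplit] at hfQ
      exact (Ideal.add_mem_iff_left _ hrest).mp hfQ
    rcases hQp.mem_or_mem (hQp.mem_of_pow_mem _ h1) with h2 | h2
    · exact haQ Q hQ h2
    · obtain ⟨Q', hQ', h3⟩ := (Ideal.IsPrime.prod_mem_iff (hp := hQp)).mp h2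
      exact hbQ Q hQ Q' hQ' h3
  refine ⟨L, f, hL, Submodule.sum_mem _ fun Q hQ => ?_, Ideal.sum_mem _ fun Q hQ =>
    Ideal.pow_mem_of_mem _ (Ideal.mul_mem_right _ _ (haI Q hQ)) _ (hk Q hQ), fun Q hQ hfQ => ?_⟩
  · have := SetLike.pow_mem_graded (L / E Q) (hc Q hQ)
    rwa [smul_eq_mul, Nat.div_mul_cancel (hdvd Q hQ)] at this
  · have hfL : f ∈ 𝒜 L := Submodule.sum_mem _ fun Q' hQ' => by
      have := SetLike.pow_mem_graded (L / E Q') (hc Q' hQ')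
      rwa [smul_eq_mul, Nat.div_mul_cancel (hdvd Q' hQ')] at this
    have hcore : f ∈ core Q := Ideal.mem_homogeneousCore_of_homogeneous_of_mem ⟨L, hfL⟩ hfQ
    obtain ⟨M, hM, hMmax⟩ := Finset.exists_maximal (s := T'.filter (core Q ≤ ·))
      ⟨core Q, Finset.mem_filter.mpr ⟨Finset.mem_image_of_mem _ hQ, le_rfl⟩⟩
    obtain ⟨hMT, hQM⟩ := Finset.mem_filter.mp hM
    refine hf₀ M (Finset.mem_filter.mpr ⟨hMT, fun Q' hQ' hle => ?_⟩) (hQM hcore)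
    exact le_antisymm hle (hMmax (Finset.mem_filter.mpr ⟨hQ', hQM.trans hle⟩) hle)

end Groth.Agent.FlatCI
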