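import Mathlib.AlgebraicGeometry.Scheme
import Mathlib.Topology.KrullDimension
import Mathlib.AlgebraicGeometry.Properties

/-!
The dimension of a space covered by open embeddings.
-/

set_option autoImplicit false

universe u v

open Topology TopologicalSpace

namespace Groth.Agent.FlatCI

/-- The dimension is bounded by the dimensions of the members of an open cover. -/
theorem topologicalKrullDim_le_of_cover {X : Type u} [TopologicalSpace X] [QuasiSober X] [T0Space X] {ι : Type v}
    (U : ι → Type u) [∀ i, TopologicalSpace (U i)] (j : ∀ i, U i → X) (hj : ∀ i, IsOpenEmbedding (j i))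
    (hcov : ∀ x, ∃ i, x ∈ Set.range (j i)) (d : WithBot ℕ∞) (hd : ∀ i, topologicalKrullDim (U i) ≤ d) :
    topologicalKrullDim X ≤ d := by
  letI := specializationOrder X
  have hX : topologicalKrullDim X = Order.krullDim X := Order.krullDim_eq_of_orderIso irreducibleSetEquivPoints
  rw [hX, Order.krullDim]
  refine iSup_le fun l => ?_
  obtain ⟨i, hi⟩ := hcov l.head
  refine le_trans ?_ (hd i)
  haveI : QuasiSober (U i) := (hj i).quasiSober
  haveI : T0Space (U i) := (hj i).isEmbedding.t0Space
  letI := specializationOrder (U i)
  have hU : topologicalKrullDim (U i) = Order.krullDim (U i) :=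
    Order.krullDim_eq_of_orderIso irreducibleSetEquivPoints
  rw [hU]
  have hmem : ∀ t, l t ∈ Set.range (j i) := fun t =>
    (show l t ⤳ l.head from l.head_le t).mem_open (hj i).isOpen_range hi
  choose u hu using hmem
  have hstrict : ∀ t : Fin l.length, u t.castSucc < u t.succ := fun t => by
    have h := l.step t
    have hle : u t.succ ⤳ u t.castSucc := by
      rw [← (hj i).isInducing.specializes_iff, hu, hu]
      exact (le_of_lt (show l t.castSucc < l t.succ from h) : l t.castSucc ≤ l t.succ)
    refine lt_of_le_of_ne hle fun e => ?_
    have := congrArg (j i) e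
    rw [hu, hu] at this
    exact (show l t.castSucc < l t.succ from h).ne this
  exact le_iSup_of_le (α := WithBot ℕ∞) (⟨l.length, u, hstrict⟩ : LTSeries (U i)) le_rfl

end Groth.Agent.FlatCI
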