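import Groth.Agent.FlatCI.Split

/-!
Dimension of the affine charts of a regular sequence of forms.
-/

set_option autoImplicit false
set_option linter.style.haveILetI false
set_option backward.isDefEq.respectTransparency false
set_option backward.isDefEq.respectTransparency.types false

universe u

open MvPolynomial

namespace Groth.Agent.FlatCI

variable {κ : Type u} [Field κ] {N : ℕ}

theorem mem_of_mul_X_sub_one {J : Ideal (MvPolynomial (Fin (N + 1)) κ)}
    (hJ : J.IsHomogeneous (CohB1.polyGrading N κ)) (i : Fin (N + 1)) {a : MvPolynomial (Fin (N + 1)) κ}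
    (ha : a * (X i - 1) ∈ J) : a ∈ J := by
  classical
  let pr : ℕ → MvPolynomial (Fin (N + 1)) κ → MvPolynomial (Fin (N + 1)) κ :=
    fun d b => GradedRing.proj (CohB1.polyGrading N κ) d b
  have hx : X i ∈ CohB1.polyGrading N κ 1 := MvPolynomial.isHomogeneous_X κ i
  have hmem : ∀ d, pr d (a * X i - a) ∈ J := fun d => hJ d (by rwa [mul_sub, mul_one] at ha)
  have hall : ∀ d, pr d a ∈ J := by
    intro d
    induction d with
    | zero =>
      have h := hmem 0
      have e : pr 0 (a * X i) = 0 :=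
        DirectSum.coe_decompose_mul_of_right_mem_of_not_le (CohB1.polyGrading N κ) hx (by omega)
      rw [show pr 0 (a * X i - a) = pr 0 (a * X i) - pr 0 a from map_sub _ _ _, e, zero_sub] at h
      exact neg_mem_iff.mp h
    | succ d ih =>
      have h := hmem (d + 1)
      have e : pr (d + 1) (a * X i) = pr d a * X i := by
        show ((DirectSum.decompose (CohB1.polyGrading N κ) (a * X i) (d + 1) : _) : MvPolynomial (Fin (N + 1)) κ) = _
        rw [DirectSum.coe_decompose_mul_of_right_mem_of_le (CohB1.polyGrading N κ) hx (show 1 ≤ d + 1 by omega),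
          Nat.add_sub_cancel]
        rfl
      rw [show pr (d + 1) (a * X i - a) = pr (d + 1) (a * X i) - pr (d + 1) a from map_sub _ _ _, e] at h
      have := J.sub_mem (J.mul_mem_right (X i) ih) h
      rwa [sub_sub_cancel] at this
  rw [← DirectSum.sum_support_decompose (CohB1.polyGrading N κ) a]
  exact Ideal.sum_mem _ fun d _ => hall d

theorem dim_step {R : Type u} [CommRing R] {J J' : Ideal R} {g : R} (hle : J ≤ J') (hg : g ∈ J')
    (hreg : ∀ a, g * a ∈ J → a ∈ J) : ringKrullDim (R ⧸ J') + 1 ≤ ringKrullDim (R ⧸ J) := by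
  refine ringKrullDim_succ_le_of_surjective (Ideal.Quotient.factor hle) (Ideal.Quotient.factor_surjective hle)
    (r := Ideal.Quotient.mk J g) ?_ ?_
  · rw [mem_nonZeroDivisors_iff_right]
    intro y hy
    obtain ⟨a, rfl⟩ := Ideal.Quotient.mk_surjective y
    rw [← map_mul, Ideal.Quotient.eq_zero_iff_mem] at hy
    exact Ideal.Quotient.eq_zero_iff_mem.mpr (hreg a (by rwa [mul_comm] at hy))
  · rw [Ideal.Quotient.factor_mk]
    exact Ideal.Quotient.eq_zero_iff_mem.mpr hg

/-- Each step of a regular sequence drops the dimension. -/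
theorem dim_idealLT_add_le (f : ℕ → MvPolynomial (Fin (N + 1)) κ) (r : ℕ)
    (hreg : ∀ j < r, ∀ a, f j * a ∈ idealLT f j → a ∈ idealLT f j) :
    ringKrullDim (MvPolynomial (Fin (N + 1)) κ ⧸ idealLT f r) + (r : ℕ) ≤ ((N + 1 : ℕ) : WithBot ℕ∞) := by
  induction r with
  | zero =>
    rw [Nat.cast_zero, add_zero]
    refine (ringKrullDim_le_of_surjective _ Ideal.Quotient.mk_surjective).trans (le_of_eq ?_)
    rw [MvPolynomial.ringKrullDim_of_isNoetherianRing, ringKrullDim_eq_zero_of_field]
    simp
  | succ r ih =>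
    refine le_trans ?_ (ih fun j hj => hreg j (by omega))
    rw [Nat.cast_add, Nat.cast_one, add_comm ((r : ℕ) : WithBot ℕ∞) 1, ← add_assoc]
    refine add_le_add ?_ le_rfl
    rw [idealLT_succ]
    exact dim_step le_sup_left (Ideal.mem_sup_right (Ideal.mem_span_singleton_self _)) (hreg r (by omega))

theorem chart_dim_le (f : ℕ → MvPolynomial (Fin (N + 1)) κ) (e : ℕ → ℕ) (n : ℕ)
    (hf : ∀ l < N - n, (f l).IsHomogeneous (e l))
    (hreg : ∀ j < N - n, ∀ a, f j * a ∈ idealLT f j → a ∈ idealLT f j) (hn : n ≤ N) (i : Fin (N + 1)) :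
    ringKrullDim (MvPolynomial (Fin (N + 1)) κ ⧸ (idealLT f (N - n) ⊔ Ideal.span {X i - 1})) ≤ (n : ℕ) := by
  have h1 := dim_step (J := idealLT f (N - n)) (J' := idealLT f (N - n) ⊔ Ideal.span {X i - 1}) le_sup_left
    (Ideal.mem_sup_right (Ideal.mem_span_singleton_self _))
    (fun a ha => mem_of_mul_X_sub_one (idealLT_isHomogeneous f e _ hf) i (by rwa [mul_comm]))
  have h2 := (add_le_add h1 (le_refl ((N - n : ℕ) : WithBot ℕ∞))).trans (dim_idealLT_add_le f _ hreg)
  generalize ringKrullDim (MvPolynomial (Fin (N + 1)) κ ⧸ (idealLT f (N - n) ⊔ Ideal.span {X i - 1})) = D at h2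
  induction D using WithBot.recBotCoe with
  | bot => exact bot_le
  | coe a =>
    have h3 : a + 1 + ((N - n : ℕ) : ℕ∞) ≤ ((N + 1 : ℕ) : ℕ∞) := WithBot.coe_le_coe.mp (by push_cast at h2 ⊢; exact h2)
    cases a with
    | top => rw [top_add, top_add, top_le_iff] at h3; exact absurd h3 (ENat.coe_ne_top _)
    | coe b =>
      have h4 : b + 1 + (N - n) ≤ N + 1 := by exact_mod_cast h3
      exact WithBot.coe_le_coe.mpr (Nat.cast_le.mpr (show b ≤ n by omega))

end Groth.Agent.FlatCI
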