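import Groth.Agent.Proj16.DegOneQuot
import Groth.Agent.Proj16.BaseChange
import Groth.Agent.FlatCI.Dim
import Groth.Agent.FlatCI.Cover

/-!
Charts, flatness and fibres of `Proj` of a graded quotient of a polynomial ring.
-/

set_option autoImplicit false
set_option linter.style.haveILetI false
set_option backward.isDefEq.respectTransparency false
set_option backward.isDefEq.respectTransparency.types false

universe u

open CategoryTheory CategoryTheory.Limits AlgebraicGeometry HomogeneousLocalization MvPolynomial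
open scoped TensorProduct

namespace Groth.Agent.FlatCI

variable {A : Type u} [CommRing A] {N : ℕ}
variable {B : Type u} [CommRing B] [Algebra A B] (ℬ : ℕ → Submodule A B) [GradedAlgebra ℬ]
variable (φ : CohB1.polyGrading N A →+*ᵍ ℬ) (hφs : Function.Surjective φ)
variable (hφA : ∀ a : A, φ (algebraMap A (MvPolynomial (Fin (N + 1)) A) a) = algebraMap A B a)

/-- The structure map of `Proj`. -/
noncomputable abbrev structMap : Proj ℬ ⟶ Spec (CommRingCat.of A) :=
  Proj.toSpecZero ℬ ≫ Spec.map (CommRingCat.ofHom (algebraMap A (ℬ 0)))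

theorem awayι_structMap {d : ℕ} {s : B} (hd : 0 < d) (hs : s ∈ ℬ d) :
    Proj.awayι ℬ s hs hd ≫ structMap ℬ = Spec.map (CommRingCat.ofHom (Proj16.BaseChange.str ℬ s)) := by
  rw [structMap, Proj.awayι_toSpecZero_assoc, ← Spec.map_comp]
  rfl

include hφA in
theorem map_str (t : MvPolynomial (Fin (N + 1)) A) (r : A) :
    Away.map φ t (Proj16.BaseChange.str (CohB1.polyGrading N A) t r) = Proj16.BaseChange.str ℬ (φ t) r := by
  apply HomogeneousLocalization.val_injective
  rw [Proj16.BaseChange.val_str]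
  show HomogeneousLocalization.val (HomogeneousLocalization.map _ _ (HomogeneousLocalization.mk _)) = _
  rw [HomogeneousLocalization.map_mk, HomogeneousLocalization.val_mk, Localization.mk_eq_mk',
    ← IsLocalization.mk'_one (M := Submonoid.powers (φ t))]
  congr 1
  · exact hφA r
  · exact Subtype.ext (map_one φ)

include hφA in
theorem map_structMap (hφ : HomogeneousIdeal.irrelevant ℬ ≤ (HomogeneousIdeal.irrelevant (CohB1.polyGrading N A)).map φ) :
    Proj.map φ hφ ≫ structMap (CohB1.polyGrading N A) = structMap ℬ := by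
  refine (Proj.mapAffineOpenCover φ hφ).openCover.hom_ext _ _ fun i => ?_
  obtain ⟨⟨d, hd⟩, ⟨t, ht⟩⟩ := i
  show Proj.awayι ℬ (φ t) (φ.2 ht) hd ≫ _ = Proj.awayι ℬ (φ t) (φ.2 ht) hd ≫ _
  rw [Proj.awayι_comp_map_assoc φ hφ hd _ ht, awayι_structMap _ hd ht, awayι_structMap (s := φ t) _ hd (φ.2 ht),
    ← Spec.map_comp, ← CommRingCat.ofHom_comp]
  congr 2
  exact RingHom.ext fun r => map_str ℬ φ hφA t r

/-- The `i`-th coordinate. -/
noncomputable abbrev coord (i : Fin (N + 1)) : B := φ (X i)

theorem coord_mem (i : Fin (N + 1)) : coord ℬ φ i ∈ ℬ 1 := φ.2 (MvPolynomial.isHomogeneous_X A i)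

/-- The `i`-th chart. -/
noncomputable abbrev chartι (i : Fin (N + 1)) : Spec (CommRingCat.of (Away ℬ (coord ℬ φ i))) ⟶ Proj ℬ :=
  Proj.awayι ℬ _ (coord_mem ℬ φ i) one_pos

include hφs in
theorem exists_chartι_eq
    (hφ : HomogeneousIdeal.irrelevant ℬ ≤ (HomogeneousIdeal.irrelevant (CohB1.polyGrading N A)).map φ)
    (y : Proj ℬ) : ∃ i, y ∈ Set.range (chartι ℬ φ i).base := by
  classical
  have h : (HomogeneousIdeal.irrelevant ℬ).toIdeal ≤ Ideal.span (Set.range fun i => coord ℬ φ i) := by
    refine le_trans (show (HomogeneousIdeal.irrelevant ℬ).toIdeal ≤ ((HomogeneousIdeal.irrelevant (CohB1.polyGrading N A)).map φ).toIdeal from hφ) (Ideal.map_le_of_le_comap ?_)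
    refine (HomogeneousIdeal.toIdeal_irrelevant_le _).mpr fun d hd p hp => ?_
    show φ p ∈ Ideal.span (Set.range fun i => coord ℬ φ i)
    rw [p.as_sum, map_sum]
    refine Ideal.sum_mem _ fun m hm => ?_
    obtain ⟨i, hi⟩ : ∃ i, m i ≠ 0 := by
      by_contra hc
      push Not at hc
      have h0 : m = 0 := Finsupp.ext hc
      have := ((MvPolynomial.mem_homogeneousSubmodule d p).mp hp) (mem_support_iff.mp hm)
      rw [h0] at this
      simp at this
      omega
    rw [monomial_eq, map_mul]
    refine Ideal.mul_mem_left _ _ ?_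
    rw [Finsupp.prod, ← Finset.mul_prod_erase _ _ (Finsupp.mem_support_iff.mpr hi), map_mul, map_pow]
    exact Ideal.mul_mem_right _ _ (Ideal.pow_mem_of_mem _ (show φ (X i) ∈ Ideal.span (Set.range fun i => coord ℬ φ i) from Ideal.subset_span ⟨i, rfl⟩) _ (Nat.pos_of_ne_zero hi))
  obtain ⟨i, hi⟩ := TopologicalSpace.Opens.mem_iSup.mp
    ((Proj.iSup_basicOpen_eq_top ℬ (fun i => coord ℬ φ i) h).ge (Set.mem_univ y))
  rw [← Proj.opensRange_awayι ℬ _ (coord_mem ℬ φ i) one_pos] at hi
  exact ⟨i, hi⟩

include hφs hφA in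
/-- A presentation of the `i`-th chart. -/
theorem exists_chart_presentation (i : Fin (N + 1)) :
    ∃ θ : MvPolynomial (Fin (N + 1)) A →+* Away ℬ (coord ℬ φ i), Function.Surjective θ ∧
      (∀ a, θ (C a) = Proj16.BaseChange.str ℬ (coord ℬ φ i) a) ∧
      RingHom.ker θ = RingHom.ker φ ⊔ Ideal.span {X i - 1} ∧
      ∀ p, Proj16.awayToQuot ℬ (coord ℬ φ i) (θ p) = Ideal.Quotient.mk _ (φ p) := by
  let e := RingEquiv.ofBijective _ (Proj16.awayToQuot_bijective ℬ (coord_mem ℬ φ i))
  let q : MvPolynomial (Fin (N + 1)) A →+* B ⧸ Ideal.span {coord ℬ φ i - 1} :=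
    (Ideal.Quotient.mk _).comp (φ : MvPolynomial (Fin (N + 1)) A →+* B)
  refine ⟨(e.symm.toRingHom).comp q, ?_, fun a => ?_, ?_, fun p => ?_⟩
  · exact e.symm.surjective.comp (Ideal.Quotient.mk_surjective.comp hφs)
  · show e.symm (Ideal.Quotient.mk _ (φ (C a))) = _
    rw [RingEquiv.symm_apply_eq]
    show _ = Proj16.awayToQuot ℬ _ _
    rw [Proj16.awayToQuot, RingHom.comp_apply, HomogeneousLocalization.algebraMap_apply, Proj16.BaseChange.val_str]
    unfold Localization.awayLift IsLocalization.Away.lift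
    rw [IsLocalization.lift_eq]
    exact congrArg _ (hφA a)
  · rw [RingHom.ker_comp_of_injective _ e.symm.injective]
    show RingHom.ker ((Ideal.Quotient.mk (Ideal.span {coord ℬ φ i - 1})).comp
      (φ : MvPolynomial (Fin (N + 1)) A →+* B)) = _
    rw [← RingHom.comap_ker, Ideal.mk_ker, show ({coord ℬ φ i - 1} : Set B) =
      (φ : MvPolynomial (Fin (N + 1)) A →+* B) '' {X i - 1} by
        rw [Set.image_singleton, map_sub, map_one]; rfl,
      ← Ideal.map_span, Ideal.comap_map_of_surjective' (φ : MvPolynomial (Fin (N + 1)) A →+* B) hφs, sup_comm]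
    rfl
  · show e (e.symm (q p)) = _
    rw [RingEquiv.apply_symm_apply]
    rfl

include hφs hφA in
theorem flat_chart [Module.Flat A B] (i : Fin (N + 1)) :
    (Proj16.BaseChange.str ℬ (coord ℬ φ i)).Flat := by
  let s := coord ℬ φ i
  letI : Algebra A (Away ℬ s) := (Proj16.BaseChange.str ℬ s).toAlgebra
  let e := RingEquiv.ofBijective _ (Proj16.awayToQuot_bijective ℬ (coord_mem ℬ φ i))
  haveI : Module.Flat B (Localization.Away s) := IsLocalization.flat _ (Submonoid.powers s)
  haveI : Module.Flat A (Localization.Away s) := Module.Flat.trans A B (Localization.Away s)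
  let ι : Away ℬ s →ₐ[A] Localization.Away s :=
    { algebraMap (Away ℬ s) (Localization.Away s) with
      commutes' := fun a => by
        show (Proj16.BaseChange.str ℬ s a).val = _
        rw [Proj16.BaseChange.val_str, ← IsScalarTower.algebraMap_apply A B (Localization.Away s)] }
  let back : Localization.Away s →+* Away ℬ s :=
    e.symm.toRingHom.comp (Localization.awayLift (Ideal.Quotient.mk (Ideal.span {s - 1})) s (by
      rw [Proj16.quot_mk_self]; exact isUnit_one))
  have hback : ∀ z, back (ι z) = z := fun z => e.symm_apply_apply z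
  let backₐ : Localization.Away s →ₐ[A] Away ℬ s :=
    { back with
      commutes' := fun a => by
        show back (algebraMap A (Localization.Away s) a) = algebraMap A (Away ℬ s) a
        rw [← ι.commutes a]
        exact hback _ }
  have hflat : Module.Flat A (Away ℬ s) :=
    Module.Flat.of_retract ι.toLinearMap backₐ.toLinearMap (LinearMap.ext hback)
  exact RingHom.flat_algebraMap_iff.mpr hflat

include hφs hφA in
theorem flat_structMap [Module.Flat A B]
    (hφ : HomogeneousIdeal.irrelevant ℬ ≤ (HomogeneousIdeal.irrelevant (CohB1.polyGrading N A)).map φ) :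
    Flat (structMap ℬ) := by
  let 𝒰 : (Proj ℬ).OpenCover := Scheme.Cover.mkOfCovers (Fin (N + 1)) _ (fun i => chartι ℬ φ i)
    (fun y => by obtain ⟨i, z, hz⟩ := exists_chartι_eq ℬ φ hφs hφ y; exact ⟨i, z, hz⟩) (fun i => inferInstance)
  refine IsZariskiLocalAtSource.of_openCover (P := @Flat) 𝒰 fun i => ?_
  show Flat (chartι ℬ φ i ≫ structMap ℬ)
  rw [awayι_structMap, HasRingHomProperty.Spec_iff (P := @Flat)]
  exact flat_chart ℬ φ hφs hφA i

/-- The fibre of a chart is the spectrum of a quotient of the polynomial ring. -/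
theorem ringKrullDim_tensor_eq {R C κ : Type u} [CommRing R] [CommRing C] [CommRing κ] [Algebra A R] [Algebra A κ]
    (θ : MvPolynomial (Fin (N + 1)) A →+* R) (hθ : Function.Surjective θ)
    (hθA : ∀ a, θ (MvPolynomial.C a) = algebraMap A R a) :
    ringKrullDim (R ⊗[A] κ) =
      ringKrullDim (MvPolynomial (Fin (N + 1)) κ ⧸ (RingHom.ker θ).map (MvPolynomial.map (algebraMap A κ))) := by
  let μ : MvPolynomial (Fin (N + 1)) A →+* MvPolynomial (Fin (N + 1)) κ := MvPolynomial.map (algebraMap A κ)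
  let ψ : MvPolynomial (Fin (N + 1)) κ →+* R ⊗[A] κ :=
    MvPolynomial.eval₂Hom (Algebra.TensorProduct.includeRight : κ →ₐ[A] R ⊗[A] κ).toRingHom fun j => θ (X j) ⊗ₜ 1
  have hψμ : ∀ p, ψ (μ p) = θ p ⊗ₜ 1 := by
    intro p
    induction p using MvPolynomial.induction_on with
    | C a =>
      rw [MvPolynomial.map_C, MvPolynomial.eval₂Hom_C, hθA]
      show (1 : R) ⊗ₜ algebraMap A κ a = algebraMap A R a ⊗ₜ 1
      rw [Algebra.algebraMap_eq_smul_one, Algebra.algebraMap_eq_smul_one, TensorProduct.tmul_smul,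
        TensorProduct.smul_tmul']
    | add p q hp hq => rw [map_add, map_add, hp, hq, map_add, TensorProduct.add_tmul]
    | mul_X p j hp =>
      rw [map_mul, map_mul, hp, MvPolynomial.map_X, MvPolynomial.eval₂Hom_X', map_mul,
        Algebra.TensorProduct.tmul_mul_tmul, mul_one]
  have hψs : Function.Surjective ψ := by
    intro z
    induction z using TensorProduct.induction_on with
    | zero => exact ⟨0, map_zero _⟩
    | tmul r c =>
      obtain ⟨p, rfl⟩ := hθ r
      refine ⟨MvPolynomial.C c * μ p, ?_⟩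
      rw [map_mul, MvPolynomial.eval₂Hom_C, hψμ]
      show (1 : R) ⊗ₜ c * θ p ⊗ₜ (1 : κ) = _
      rw [Algebra.TensorProduct.tmul_mul_tmul, one_mul, mul_one]
    | add x y hx hy =>
      obtain ⟨a, rfl⟩ := hx
      obtain ⟨b, rfl⟩ := hy
      exact ⟨a + b, map_add _ _ _⟩
  refine le_antisymm ?_ ?_
  · refine ringKrullDim_le_of_surjective (Ideal.Quotient.lift _ ψ fun w hw => ?_) ?_
    · refine (show (RingHom.ker θ).map μ ≤ RingHom.ker ψ from Ideal.map_le_iff_le_comap.mpr fun p hp => ?_) hw
      rw [Ideal.mem_comap, RingHom.mem_ker, hψμ, RingHom.mem_ker.mp hp, TensorProduct.zero_tmul]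
    · exact Ideal.Quotient.lift_surjective_of_surjective _ _ hψs
  · let I := (RingHom.ker θ).map μ
    let g₀ : R →+* MvPolynomial (Fin (N + 1)) κ ⧸ I := RingHom.liftOfSurjective θ hθ
      ⟨(Ideal.Quotient.mk I).comp μ, fun p hp =>
        Ideal.Quotient.eq_zero_iff_mem.mpr (Ideal.mem_map_of_mem μ hp)⟩
    have hg₀ : ∀ p, g₀ (θ p) = Ideal.Quotient.mk I (μ p) := fun p => RingHom.liftOfRightInverse_comp_apply _ _ _ _ p
    let g : R →ₐ[A] MvPolynomial (Fin (N + 1)) κ ⧸ I :=
      { g₀ with
        commutes' := fun a => by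
          show g₀ (algebraMap A R a) = _
          rw [← hθA, hg₀]
          show Ideal.Quotient.mk I (μ (MvPolynomial.C a)) = _
          rw [MvPolynomial.map_C]
          rfl }
    let h : κ →ₐ[A] MvPolynomial (Fin (N + 1)) κ ⧸ I :=
      (Ideal.Quotient.mkₐ A I).comp (IsScalarTower.toAlgHom A κ (MvPolynomial (Fin (N + 1)) κ))
    let L := Algebra.TensorProduct.lift g h fun a b => Commute.all _ _
    have hX : ∀ j, L (θ (X j) ⊗ₜ 1) = Ideal.Quotient.mk I (X j) := fun j => by
      rw [Algebra.TensorProduct.lift_tmul, map_one, mul_one]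
      show g₀ (θ (X j)) = _
      rw [hg₀, MvPolynomial.map_X]
    refine ringKrullDim_le_of_surjective L.toRingHom fun z => ?_
    obtain ⟨p, rfl⟩ := Ideal.Quotient.mk_surjective z
    induction p using MvPolynomial.induction_on with
    | C c =>
      refine ⟨1 ⊗ₜ c, ?_⟩
      show L (1 ⊗ₜ c) = _
      rw [Algebra.TensorProduct.lift_tmul, map_one, one_mul]
      rfl
    | add p q hp hq =>
      obtain ⟨a, ha⟩ := hp
      obtain ⟨b, hb⟩ := hq
      exact ⟨a + b, by rw [map_add, ha, hb, map_add]⟩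
    | mul_X p j hp =>
      obtain ⟨a, ha⟩ := hp
      exact ⟨a * (θ (X j) ⊗ₜ 1), by rw [map_mul, ha, map_mul]; exact congrArg _ (hX j)⟩

end Groth.Agent.FlatCI
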