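import Groth.Agent.FlatCI.Charts
import Mathlib.AlgebraicGeometry.Fiber

/-!
Dimensions of the fibres of `Proj` of a graded quotient of a polynomial ring.
-/

set_option autoImplicit false
set_option linter.style.haveILetI false
set_option backward.isDefEq.respectTransparency false
set_option backward.isDefEq.respectTransparency.types false

universe u

open CategoryTheory CategoryTheory.Limits AlgebraicGeometry HomogeneousLocalization MvPolynomial Topology
open scoped TensorProduct

namespace Groth.Agent.FlatCI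

/-- A fibre may be computed with any preimmersion onto the point. -/
theorem topologicalKrullDim_fiber_eq {Y S T : Scheme.{u}} (g : Y ⟶ S) (h : T ⟶ S) [IsPreimmersion h] (s : S)
    (hr : Set.range h.base = {s}) :
    topologicalKrullDim ↥(g.fiber s) = topologicalKrullDim ↥(pullback g h) := by
  haveI : IsPreimmersion (pullback.fst g h) := MorphismProperty.pullback_fst _ _ inferInstance
  have hrange : Set.range (pullback.fst g h).base = g.base ⁻¹' {s} := by
    rw [Scheme.Pullback.range_fst]
    exact congrArg _ hr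
  let e : ↥(g.fiber s) ≃ₜ ↥(pullback g h) :=
    (g.fiberHomeo s).trans ((pullback.fst g h).isEmbedding.toHomeomorph.trans (Homeomorph.setCongr hrange)).symm
  exact IsHomeomorph.topologicalKrullDim_eq e e.isHomeomorph

theorem range_specMap_residueField {A : Type u} [CommRing A] (s : Spec (CommRingCat.of A)) :
    IsPreimmersion (Spec.map (CommRingCat.ofHom (algebraMap A s.asIdeal.ResidueField))) ∧
      Set.range (Spec.map (CommRingCat.ofHom (algebraMap A s.asIdeal.ResidueField))).base = {s} := by
  have h : Spec.map (CommRingCat.ofHom (algebraMap A s.asIdeal.ResidueField)) =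
      inv (Spec.map (Scheme.Spec.residueFieldIso (CommRingCat.of A) s).inv) ≫
        (Spec (CommRingCat.of A)).fromSpecResidueField s := by
    rw [IsIso.eq_inv_comp]
    exact Scheme.Spec.map_residueFieldIso_inv_eq_fromSpecResidueField _ s
  rw [h]
  refine ⟨inferInstance, ?_⟩
  rw [Scheme.Hom.comp_base, TopCat.coe_comp, Set.range_comp,
    Set.range_eq_univ.mpr (Scheme.Hom.surjective (inv (Spec.map (Scheme.Spec.residueFieldIso (CommRingCat.of A) s).inv))),
    Set.image_univ]
  exact Scheme.range_fromSpecResidueField s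

variable {A : Type u} [CommRing A] {N : ℕ}
variable {B : Type u} [CommRing B] [Algebra A B] (ℬ : ℕ → Submodule A B) [GradedAlgebra ℬ]
variable (φ : CohB1.polyGrading N A →+*ᵍ ℬ) (hφs : Function.Surjective φ)
variable (hφA : ∀ a : A, φ (algebraMap A (MvPolynomial (Fin (N + 1)) A) a) = algebraMap A B a)
variable (κ : Type u) [CommRing κ] [Algebra A κ]

/-- The ring of the `i`-th chart of a fibre. -/
abbrev fibreQuot (i : Fin (N + 1)) : Type u :=
  MvPolynomial (Fin (N + 1)) κ ⧸ ((RingHom.ker φ).map (MvPolynomial.map (algebraMap A κ)) ⊔ Ideal.span {X i - 1})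

include hφs hφA in
theorem exists_fibre_chart (i : Fin (N + 1)) :
    ∃ (U : Scheme.{u}) (q : U ⟶ pullback (structMap ℬ) (Spec.map (CommRingCat.ofHom (algebraMap A κ)))),
      IsOpenImmersion q ∧ Set.range q.base = (pullback.fst (structMap ℬ) (Spec.map (CommRingCat.ofHom (algebraMap A κ)))).base ⁻¹'
        Set.range (chartι ℬ φ i).base ∧
      topologicalKrullDim ↥U = ringKrullDim (fibreQuot ℬ φ κ i) := by
  obtain ⟨θ, hθ, hθC, hker, -⟩ := exists_chart_presentation ℬ φ hφs hφA i
  let C' := Away ℬ (coord ℬ φ i)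
  letI : Algebra A C' := (Proj16.BaseChange.str ℬ (coord ℬ φ i)).toAlgebra
  let h := Spec.map (CommRingCat.ofHom (algebraMap A κ))
  let q₀ : pullback (Spec.map (CommRingCat.ofHom (algebraMap A C'))) h ⟶ pullback (structMap ℬ) h :=
    pullback.map _ _ _ _ (chartι ℬ φ i) (𝟙 _) (𝟙 _)
      (by rw [Category.comp_id]; exact (awayι_structMap ℬ one_pos (coord_mem ℬ φ i)).symm) (by simp)
  refine ⟨_, (pullbackSpecIso A C' κ).inv ≫ q₀, inferInstance, ?_, ?_⟩
  · rw [Scheme.Hom.comp_base, TopCat.coe_comp, Set.range_comp,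
      Set.range_eq_univ.mpr (Scheme.Hom.surjective (pullbackSpecIso A C' κ).inv), Set.image_univ]
    rw [show Set.range q₀.base = _ from Scheme.Pullback.range_map ..]
    simp [h]
    rfl
  · refine (PrimeSpectrum.topologicalKrullDim_eq_ringKrullDim _).trans ?_
    refine (ringKrullDim_tensor_eq (C := C') θ hθ hθC).trans ?_
    refine ringKrullDim_eq_of_ringEquiv (Ideal.quotEquivOfEq ?_)
    rw [hker, Ideal.map_sup, Ideal.map_span, Set.image_singleton, map_sub, MvPolynomial.map_X, map_one]

include hφs hφA in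
theorem dim_fibre_le {d : WithBot ℕ∞} (hd : ∀ i, ringKrullDim (fibreQuot ℬ φ κ i) ≤ d)
    (hφ : HomogeneousIdeal.irrelevant ℬ ≤ (HomogeneousIdeal.irrelevant (CohB1.polyGrading N A)).map φ) :
    topologicalKrullDim ↥(pullback (structMap ℬ) (Spec.map (CommRingCat.ofHom (algebraMap A κ)))) ≤ d := by
  choose U q hq hrange hdim using exists_fibre_chart ℬ φ hφs hφA κ
  refine topologicalKrullDim_le_of_cover (fun i => ↥(U i)) (fun i => (q i).base)
    (fun i => haveI := hq i; (q i).isOpenEmbedding) (fun x => ?_) d fun i => (hdim i).le.trans (hd i)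
  obtain ⟨i, hi⟩ := exists_chartι_eq ℬ φ hφs hφ
    ((pullback.fst (structMap ℬ) (Spec.map (CommRingCat.ofHom (algebraMap A κ)))).base x)
  exact ⟨i, (hrange i).ge hi⟩

include hφs hφA in
theorem chart_le_dim_fibre (i : Fin (N + 1)) :
    ringKrullDim (fibreQuot ℬ φ κ i) ≤
      topologicalKrullDim ↥(pullback (structMap ℬ) (Spec.map (CommRingCat.ofHom (algebraMap A κ)))) := by
  obtain ⟨U, q, hq, -, hdim⟩ := exists_fibre_chart ℬ φ hφs hφA κ i
  exact hdim.ge.trans q.isOpenEmbedding.isInducing.topologicalKrullDim_le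

end Groth.Agent.FlatCI
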