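import Groth.Agent.FlatCI.Avoid
import Groth.Agent.LC.LiaisonGlobal
import Groth.Agent.SmoothDim.Basic
import Groth.Prelude.Def_CohB1

/-!
A sequence of forms in a homogeneous ideal which is regular on the closed fibre.
-/

set_option autoImplicit false
set_option linter.style.haveILetI false
set_option backward.isDefEq.respectTransparency false
set_option backward.isDefEq.respectTransparency.types false

universe u

open MvPolynomial IsLocalRing

namespace Groth.Agent.FlatCI

variable {k : Type u} [Field k] {N : ℕ}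

local notation "S" => MvPolynomial (Fin (N + 1)) k

theorem isMaximal_of_forall_X_mem (P : Ideal S) [P.IsPrime] (h : ∀ i, X i ∈ P) : P.IsMaximal := by
  refine Ideal.Quotient.maximal_of_isField P ?_
  have hsurj : Function.Surjective ((Ideal.Quotient.mk P).comp (C : k →+* S)) := by
    intro y
    obtain ⟨p, rfl⟩ := Ideal.Quotient.mk_surjective y
    induction p using MvPolynomial.induction_on with
    | C a => exact ⟨a, rfl⟩
    | add p q hp hq =>
      obtain ⟨a, ha⟩ := hp
      obtain ⟨b, hb⟩ := hq
      exact ⟨a + b, by rw [map_add, ha, hb, map_add]⟩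
    | mul_X p i _ =>
      exact ⟨0, by rw [map_zero, map_mul, Ideal.Quotient.eq_zero_iff_mem.mpr (h i), mul_zero]⟩
  have e := RingEquiv.ofBijective _ ⟨((Ideal.Quotient.mk P).comp (C : k →+* S)).injective, hsurj⟩
  exact e.toMulEquiv.symm.isField (Field.toIsField k)

theorem X_sub_one_not_unit (P : Ideal S) [P.IsPrime] (hP : P.IsHomogeneous (CohB1.polyGrading N k))
    {i : Fin (N + 1)} (hi : X i ∉ P) : P ⊔ Ideal.span {X i - 1} ≠ ⊤ := by
  classical
  intro htop
  obtain ⟨p, hp, q, hq, hpq⟩ := Submodule.mem_sup.mp (htop ▸ Submodule.mem_top : (1 : S) ∈ P ⊔ Ideal.span {X i - 1})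
  obtain ⟨c, rfl⟩ := Ideal.mem_span_singleton'.mp hq
  let pr : ℕ → S → S := fun d a => GradedRing.proj (CohB1.polyGrading N k) d a
  have hadd : ∀ d a b, pr d (a + b) = pr d a + pr d b := fun d a b => map_add _ a b
  have hx : X i ∈ CohB1.polyGrading N k 1 := MvPolynomial.isHomogeneous_X k i
  have hrec : ∀ d, pr (d + 1) c - pr d c * X i ∈ P := fun d => by
    have h1 : pr (d + 1) (1 : S) = pr (d + 1) p + (pr d c * X i - pr (d + 1) c) := by
      conv_lhs => rw [← hpq, mul_sub, mul_one]
      rw [hadd]
      congr 1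
      show GradedRing.proj (CohB1.polyGrading N k) (d + 1) (c * X i - c) = _
      rw [map_sub]
      congr 1
      show ((DirectSum.decompose (CohB1.polyGrading N k) (c * X i) (d + 1) : _) : S) = _
      rw [DirectSum.coe_decompose_mul_of_right_mem_of_le (CohB1.polyGrading N k) hx (by omega)]
      rfl
    have h2 : pr (d + 1) (1 : S) = 0 :=
      DirectSum.decompose_of_mem_ne (CohB1.polyGrading N k) (SetLike.one_mem_graded (CohB1.polyGrading N k))
        (Nat.succ_ne_zero d).symm
    have h3 : pr (d + 1) c - pr d c * X i = pr (d + 1) p := by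
      rw [h2] at h1
      linear_combination h1
    rw [h3]
    exact hP (d + 1) hp
  have h0 : 1 + pr 0 c ∈ P := by
    have h1 : pr 0 (1 : S) = pr 0 p + pr 0 (c * X i - c) := by
      conv_lhs => rw [← hpq, mul_sub, mul_one]
      rw [hadd]
    have h2 : pr 0 (1 : S) = 1 :=
      DirectSum.decompose_of_mem_same (CohB1.polyGrading N k) (SetLike.one_mem_graded (CohB1.polyGrading N k))
    have h3 : pr 0 (c * X i - c) = - pr 0 c := by
      show GradedRing.proj (CohB1.polyGrading N k) 0 (c * X i - c) = _
      rw [map_sub]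
      have : GradedRing.proj (CohB1.polyGrading N k) 0 (c * X i) = 0 :=
        DirectSum.coe_decompose_mul_of_right_mem_of_not_le (CohB1.polyGrading N k) hx (by omega)
      rw [this, zero_sub]
    rw [h2, h3] at h1
    rw [show (1 : S) + pr 0 c = pr 0 p by linear_combination h1]
    exact hP 0 hp
  have hall : ∀ d, X i ^ d + pr d c ∈ P := by
    intro d
    induction d with
    | zero => simpa using h0
    | succ d ih =>
      rw [show X i ^ (d + 1) + pr (d + 1) c = X i * (X i ^ d + pr d c) + (pr (d + 1) c - pr d c * X i) by ring]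
      exact add_mem (Ideal.mul_mem_left _ _ ih) (hrec d)
  have hz : pr (c.totalDegree + 1) c = 0 := by
    show ((DirectSum.decompose (CohB1.polyGrading N k) c (c.totalDegree + 1) : _) : S) = 0
    rw [show ((DirectSum.decompose (CohB1.polyGrading N k) c (c.totalDegree + 1) : _) : S) =
      homogeneousComponent (c.totalDegree + 1) c from
        weightedDecomposition.decompose'_apply _ _ _ _]
    exact homogeneousComponent_eq_zero _ _ (by omega)
  have := hall (c.totalDegree + 1)
  rw [hz, add_zero] at this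
  exact hi (‹P.IsPrime›.mem_of_pow_mem _ this)

theorem height_maximal (M : Ideal S) [M.IsMaximal] : M.height = ((N + 1 : ℕ) : ℕ∞) := by
  have h := SmoothDim.height_maximal_mvPolynomial k (N + 1) ⟨M, inferInstance⟩ inferInstance
  rwa [← PrimeSpectrum.height_eq_orderHeight] at h

theorem ringKrullDim_le_quotient_add_one {Q T : Type u} [CommRing Q] [IsNoetherianRing Q] [IsLocalRing Q]
    [CommRing T] (φ : T →+* Q) (hφ : Function.Injective (PrimeSpectrum.comap φ)) {y : T}
    (hy : φ y ∈ maximalIdeal Q) {J : Ideal T} (hJ : ∀ w ∈ J, φ w ∈ Ideal.span {φ y}) :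
    ringKrullDim Q ≤ ringKrullDim (T ⧸ J) + 1 := by
  have h := ringKrullDim_le_ringKrullDim_quotient_add_card ({φ y} : Finset Q) (by
    intro z hz
    rw [Finset.coe_singleton, Set.mem_singleton_iff] at hz
    subst hz
    rw [← Ideal.jacobson_bot, IsLocalRing.jacobson_eq_maximalIdeal _ bot_ne_top]
    exact hy)
  rw [Finset.coe_singleton, Finset.card_singleton, Nat.cast_one] at h
  refine h.trans (add_le_add ?_ le_rfl)
  let ψ := Ideal.Quotient.lift J ((Ideal.Quotient.mk (Ideal.span {φ y})).comp φ) fun w hw =>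
    Ideal.Quotient.eq_zero_iff_mem.mpr (hJ w hw)
  refine Order.krullDim_le_of_strictMono (PrimeSpectrum.comap ψ) (Monotone.strictMono_of_injective
    (fun a b h => Ideal.comap_mono h) fun a b hab => ?_)
  have h1 := congrArg (PrimeSpectrum.comap (Ideal.Quotient.mk J)) hab
  rw [← PrimeSpectrum.comap_comp_apply, ← PrimeSpectrum.comap_comp_apply, Ideal.Quotient.lift_comp_mk,
    PrimeSpectrum.comap_comp_apply, PrimeSpectrum.comap_comp_apply] at h1
  exact PrimeSpectrum.comap_injective_of_surjective _ Ideal.Quotient.mk_surjective (hφ h1)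

/-- Small affine charts force large height. -/
theorem height_ge_of_charts {n : ℕ} (J : Ideal S) (hJ : J.IsHomogeneous (CohB1.polyGrading N k))
    (hc : ∀ i : Fin (N + 1), ringKrullDim (S ⧸ (J ⊔ Ideal.span {X i - 1})) ≤ n)
    (P : Ideal S) [P.IsPrime] (hJP : J ≤ P) : ((N - n : ℕ) : ℕ∞) ≤ P.height := by
  let P₀ := (P.homogeneousCore (CohB1.polyGrading N k)).toIdeal
  haveI : P₀.IsPrime := Ideal.IsPrime.homogeneousCore ‹P.IsPrime›
  have hP₀ : P₀.IsHomogeneous (CohB1.polyGrading N k) := HomogeneousIdeal.isHomogeneous _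
  refine le_trans ?_ (Ideal.height_mono (Ideal.toIdeal_homogeneousCore_le _ P : P₀ ≤ P))
  have hJP₀ : J ≤ P₀ := hJ.toIdeal_homogeneousCore_eq_self.ge.trans (Ideal.homogeneousCore_mono _ hJP)
  by_cases hall : ∀ i, X i ∈ P₀
  · haveI := isMaximal_of_forall_X_mem P₀ hall
    rw [height_maximal P₀]
    exact Nat.cast_le.mpr (by omega)
  obtain ⟨i, hi⟩ := not_forall.mp hall
  obtain ⟨M, hM, hle⟩ := Ideal.exists_le_maximal _ (X_sub_one_not_unit P₀ hP₀ hi)
  have hPM : P₀ ≤ M := le_sup_left.trans hle
  have hxM : X i - 1 ∈ M := hle (Ideal.mem_sup_right (Ideal.mem_span_singleton_self _))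
  let R := Localization.AtPrime M
  haveI : IsRegularLocalRing R := IsRegularRing.isRegularLocalRing_localization (R := S) M
  haveI := LC.gorenstein_of_isRegularLocalRing (R := R)
  haveI := LC.isCohenMacaulayLocalRing_of_gorenstein (R := R)
  let P' := P₀.map (algebraMap S R)
  have hne : P' ≠ ⊤ := by
    intro h
    have h' : P' ≤ maximalIdeal R := by
      rw [← IsLocalization.AtPrime.map_eq_maximalIdeal M R]
      exact Ideal.map_mono hPM
    exact (IsLocalRing.maximalIdeal.isMaximal R).ne_top (top_le_iff.mp (h ▸ h'))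
  have hform := LC.height_add_ringKrullDim_quotient (R := R) P' hne
  rw [IsLocalization.AtPrime.ringKrullDim_eq_height M R, height_maximal M,
    IsLocalization.height_map_of_disjoint M.primeCompl P₀
      (Set.disjoint_left.2 fun x hx hxP => hx (hPM hxP))] at hform
  haveI : Nontrivial (R ⧸ P') := Ideal.Quotient.nontrivial_iff.mpr hne
  haveI : IsLocalRing (R ⧸ P') := IsLocalRing.of_surjective' _ Ideal.Quotient.mk_surjective
  let J' := J ⊔ Ideal.span {X i - 1}
  have h3 : ringKrullDim (R ⧸ P') ≤ ((n + 1 : ℕ) : WithBot ℕ∞) := by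
    refine (ringKrullDim_le_quotient_add_one (T := S) (Q := R ⧸ P') ((Ideal.Quotient.mk P').comp (algebraMap S R))
      (fun a b hab => ?_) (y := X i - 1) ?_ (J := J') fun w hw => ?_).trans ?_
    · rw [PrimeSpectrum.comap_comp_apply, PrimeSpectrum.comap_comp_apply] at hab
      exact PrimeSpectrum.comap_injective_of_surjective _ Ideal.Quotient.mk_surjective
        (PrimeSpectrum.localization_comap_injective R M.primeCompl hab)
    · rw [IsLocalRing.mem_maximalIdeal]
      intro hu
      obtain ⟨v, hv⟩ := hu.exists_right_inv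
      obtain ⟨v, rfl⟩ := Ideal.Quotient.mk_surjective v
      rw [RingHom.comp_apply, ← map_mul, ← map_one (Ideal.Quotient.mk P'), Ideal.Quotient.eq] at hv
      have hP'le : P' ≤ maximalIdeal R := IsLocalRing.le_maximalIdeal hne
      have hxm : algebraMap S R (X i - 1) ∈ maximalIdeal R :=
        (IsLocalization.AtPrime.to_map_mem_maximal_iff R M _).mpr hxM
      refine (IsLocalRing.maximalIdeal.isMaximal R).ne_top ((Ideal.eq_top_iff_one _).mpr ?_)
      have := sub_mem ((maximalIdeal R).mul_mem_right v hxm) (hP'le hv)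
      rwa [sub_sub_cancel] at this
    · refine (show J' ≤ (Ideal.span {((Ideal.Quotient.mk P').comp (algebraMap S R)) (X i - 1)}).comap
        ((Ideal.Quotient.mk P').comp (algebraMap S R)) from sup_le (fun w hw => ?_) ?_) hw
      · show Ideal.Quotient.mk P' (algebraMap S R w) ∈ Ideal.span {((Ideal.Quotient.mk P').comp (algebraMap S R)) (X i - 1)}
        rw [Ideal.Quotient.eq_zero_iff_mem.mpr (Ideal.mem_map_of_mem _ (hJP₀ hw))]
        exact Ideal.zero_mem _
      · rw [Ideal.span_le, Set.singleton_subset_iff]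
        exact Ideal.mem_span_singleton_self _
    · rw [Nat.cast_add, Nat.cast_one]
      exact add_le_add (hc i) le_rfl
  cases hh : P₀.height with
  | top => exact le_top
  | coe a =>
    rw [hh] at hform
    have h4 : ((N + 1 : ℕ) : WithBot ℕ∞) ≤ ((n + 1 : ℕ) : WithBot ℕ∞) + ((a : ℕ∞) : WithBot ℕ∞) := by
      rw [show ((N + 1 : ℕ) : WithBot ℕ∞) = _ from hform.symm]
      exact add_le_add h3 le_rfl
    have h5 : N + 1 ≤ n + 1 + a := by exact_mod_cast h4
    exact Nat.cast_le.mpr (by omega)

theorem minimal_of_associated_ci {m : ℕ} (g : Fin m → S) (hh : (Ideal.span (Set.range g)).height = m)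
    {Q : Ideal S} (hQ : Q ∈ associatedPrimes S (S ⧸ Ideal.span (Set.range g))) :
    Q ∈ (Ideal.span (Set.range g)).minimalPrimes ∧ Q.height ≤ m := by
  haveI := LC.Liaison.gorensteinRing_ci g rfl hh
  haveI := LC.Liaison.isCohenMacaulayRing_of_gorenstein (S ⧸ Ideal.span (Set.range g))
  have hmin := LC.Liaison.minimal_of_ass_quot _ hQ
  refine ⟨hmin, ?_⟩
  refine (Ideal.height_le_card_of_mem_minimalPrimes_span (Set.finite_range g) hmin).trans ?_
  exact Nat.cast_le.mpr (by rw [← Nat.card_coe_set_eq]; exact (Finite.card_range_le g).trans (by simp))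

/-- Forms in `I` which form a regular sequence on the fibre over `k`. -/
theorem exists_regular_forms {A : Type u} [CommRing A] [Algebra A k] (I : Ideal (MvPolynomial (Fin (N + 1)) A))
    (hIk : (I.map (MvPolynomial.map (algebraMap A k))).IsHomogeneous (CohB1.polyGrading N k))
    (hIA : I.IsHomogeneous (CohB1.polyGrading N A)) {n : ℕ}
    (hc : ∀ i : Fin (N + 1),
      ringKrullDim (S ⧸ (I.map (MvPolynomial.map (algebraMap A k)) ⊔ Ideal.span {X i - 1})) ≤ n) (m : ℕ)
    (hm : m ≤ N - n) :
    ∃ (f : ℕ → MvPolynomial (Fin (N + 1)) A) (e : ℕ → ℕ),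
      (∀ j < m, 0 < e j ∧ (f j).IsHomogeneous (e j) ∧ f j ∈ I) ∧
      (Ideal.span (Set.range fun l : Fin m => MvPolynomial.map (algebraMap A k) (f l))).height = m ∧
      ∀ j < m, ∀ a : S,
        MvPolynomial.map (algebraMap A k) (f j) * a ∈
          Ideal.span (Set.range fun l : Fin j => MvPolynomial.map (algebraMap A k) (f l)) →
        a ∈ Ideal.span (Set.range fun l : Fin j => MvPolynomial.map (algebraMap A k) (f l)) := by
  classical
  let π : MvPolynomial (Fin (N + 1)) A →+* S := MvPolynomial.map (algebraMap A k)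
  induction m with
  | zero =>
    exact ⟨fun _ => 0, fun _ => 0, by omega, by simp, by omega⟩
  | succ m ih =>
    obtain ⟨f, e, hf, hht, hreg⟩ := ih (by omega)
    let J := Ideal.span (Set.range fun l : Fin m => π (f l))
    let T := (associatedPrimes.finite S (S ⧸ J)).toFinset
    have hmin : ∀ Q ∈ associatedPrimes S (S ⧸ J), Q ∈ J.minimalPrimes ∧ Q.height ≤ m :=
      fun Q hQ => minimal_of_associated_ci _ hht hQ
    obtain ⟨d, g, hd, hgd, hgI, hgQ⟩ := exists_homogeneous_avoid (CohB1.polyGrading N A) I
      (T.image (Ideal.comap π)) (fun Q₀ hQ₀ => by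
        obtain ⟨Q, hQ, rfl⟩ := Finset.mem_image.mp hQ₀
        haveI := (((associatedPrimes.finite S (S ⧸ J)).mem_toFinset).mp hQ).isPrime
        exact Ideal.comap_isPrime π Q) (fun Q₀ hQ₀ => by
        obtain ⟨Q, hQ, rfl⟩ := Finset.mem_image.mp hQ₀
        have hQa := ((associatedPrimes.finite S (S ⧸ J)).mem_toFinset).mp hQ
        haveI := hQa.isPrime
        have hlt : Q.height < ((N - n : ℕ) : ℕ∞) := (hmin Q hQa).2.trans_lt (Nat.cast_lt.mpr (by omega))
        obtain ⟨d, a, had, haI, haQ⟩ : ∃ (d : ℕ) (a : MvPolynomial (Fin (N + 1)) A),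
            a ∈ CohB1.polyGrading N A d ∧ a ∈ I ∧ a ∉ Q.comap π :=
          exists_homogeneous_notMem _ hIA fun hle =>
            (not_le.mpr hlt) (height_ge_of_charts _ hIk hc Q (Ideal.map_le_iff_le_comap.mpr hle))
        obtain ⟨i, hi⟩ : ∃ i, X i ∉ Q := by
          by_contra hall
          push Not at hall
          haveI := isMaximal_of_forall_X_mem Q hall
          rw [height_maximal Q] at hlt
          exact absurd hlt (not_lt.mpr (Nat.cast_le.mpr (by omega)))
        refine ⟨d + 1, a * X i, by omega, SetLike.mul_mem_graded had (MvPolynomial.isHomogeneous_X A i),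
          I.mul_mem_right _ haI, fun hmem => ?_⟩
        rw [Ideal.mem_comap, map_mul, show π (X i) = X i from MvPolynomial.map_X _ i] at hmem
        exact (‹Q.IsPrime›.mem_or_mem hmem).elim haQ hi)
    have hgass : ∀ Q ∈ associatedPrimes S (S ⧸ J), π g ∉ Q := fun Q hQ =>
      hgQ _ (Finset.mem_image_of_mem _ ((associatedPrimes.finite S (S ⧸ J)).mem_toFinset.mpr hQ))
    let f' := Function.update f m g
    have hf' : ∀ j < m, f' j = f j := fun j hj => Function.update_of_ne (by omega) _ _
    have hJ' : ∀ j ≤ m, (Set.range fun l : Fin j => π (f' l)) = Set.range fun l : Fin j => π (f l) :=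
      fun j hj => by
        congr 1
        funext l
        rw [hf' l (by omega)]
    have hJm : Ideal.span (Set.range fun l : Fin (m + 1) => π (f' l)) = J ⊔ Ideal.span {π g} := by
      rw [← Ideal.span_union]
      congr 1
      ext y
      constructor
      · rintro ⟨l, rfl⟩
        rcases lt_or_eq_of_le (Nat.le_of_lt_succ l.2) with hl | hl
        · exact Or.inl ⟨⟨l, hl⟩, by simp only [hf' l hl]⟩
        · exact Or.inr (by simp [f', hl])
      · rintro (⟨l, rfl⟩ | hy)
        · exact ⟨⟨l, by omega⟩, by simp only [hf' l l.2]⟩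
        · exact ⟨⟨m, by omega⟩, by simpa [f', eq_comm] using hy⟩
    refine ⟨f', Function.update e m d, fun j hj => ?_, ?_, fun j hj => ?_⟩
    · rcases lt_or_eq_of_le (Nat.le_of_lt_succ hj) with hl | hl
      · simpa [f', Function.update_of_ne (ne_of_lt hl)] using hf j hl
      · subst hl
        simpa [f'] using ⟨hd, (MvPolynomial.mem_homogeneousSubmodule d g).mp hgd, hgI⟩
    · show (Ideal.span (Set.range fun l : Fin (m + 1) => π (f' l))).height = _
      have hne : J ⊔ Ideal.span {π g} ≤ RingHom.ker (constantCoeff (σ := Fin (N + 1)) (R := k)) := by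
        refine sup_le (Ideal.span_le.mpr ?_) (Ideal.span_le.mpr ?_)
        · rintro _ ⟨l, rfl⟩
          obtain ⟨he, hh, -⟩ := hf l l.2
          exact (hh.map _).coeff_eq_zero (by simpa using he.ne)
        · rw [Set.singleton_subset_iff]
          exact ((MvPolynomial.mem_homogeneousSubmodule d g).mp hgd |>.map _).coeff_eq_zero (by simpa using hd.ne)
      have hne' : J ⊔ Ideal.span {π g} ≠ ⊤ := fun h => RingHom.ker_ne_top _ (top_le_iff.mp (h ▸ hne))
      refine le_antisymm ?_ ?_
      · obtain ⟨P, hP⟩ := Ideal.nonempty_minimalPrimes (hJm ▸ hne')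
        refine (Ideal.height_mono hP.1.2).trans ((Ideal.height_le_card_of_mem_minimalPrimes_span
          (Set.finite_range _) hP).trans (Nat.cast_le.mpr (by rw [← Nat.card_coe_set_eq]; exact (Finite.card_range_le _).trans (by simp))))
      · rw [hJm, Ideal.height_eq_inf_minimalPrimes]
        refine le_iInf₂ fun P hP => ?_
        haveI := hP.1.1
        obtain ⟨q, hq, hqP⟩ := Ideal.exists_minimalPrimes_le (le_sup_left.trans hP.1.2)
        haveI := hq.1.1
        have hgq : π g ∉ q := hgass q (LC.Liaison.ass_of_minimal hq)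
        have hlt : q < P := lt_of_le_of_ne hqP fun h => hgq (h ▸ hP.1.2 (Ideal.mem_sup_right
          (Ideal.mem_span_singleton_self _)))
        rw [Nat.cast_add, Nat.cast_one]
        haveI : P.FiniteHeight := (Ideal.finiteHeight_iff P).2 (Or.inr (Ideal.height_ne_top (Ideal.IsPrime.ne_top')))
        refine le_trans ?_ (Order.add_one_le_of_lt (Ideal.height_strict_mono_of_isPrime_of_isPrime hlt))
        gcongr
        exact hht.ge.trans (Ideal.height_mono hq.1.2)
    · intro a ha
      change π (f' j) * a ∈ Ideal.span (Set.range fun l : Fin j => π (f' l)) at ha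
      show a ∈ Ideal.span (Set.range fun l : Fin j => π (f' l))
      rw [hJ' j (by omega)] at ha ⊢
      rcases lt_or_eq_of_le (Nat.le_of_lt_succ hj) with hl | hl
      · rw [hf' j hl] at ha
        exact hreg j hl a ha
      · subst hl
        rw [show f' j = g from Function.update_self _ _ _] at ha
        by_contra haJ
        have hz : π g ∈ {r : S | ∃ x : S ⧸ J, x ≠ 0 ∧ r • x = 0} :=
          ⟨Ideal.Quotient.mk J a, fun h => haJ (Ideal.Quotient.eq_zero_iff_mem.mp h),
            Ideal.Quotient.eq_zero_iff_mem.mpr ha⟩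
        rw [← biUnion_associatedPrimes_eq_zero_divisors] at hz
        obtain ⟨Q, hQ, hgQ'⟩ := Set.mem_iUnion₂.mp hz
        exact hgass Q hQ hgQ'

end Groth.Agent.FlatCI
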