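import Groth.Agent.FlatCI.Fibre
import Groth.Agent.Proj16.ClosedSub
import Groth.Agent.PicGlue.ProjSpaceBC
import Groth.Agent.SegreX.Coord

/-!
Closed subschemes of projective space over a local base lie in flat ones of the same relative dimension.
-/

set_option autoImplicit false
set_option linter.style.haveILetI false
set_option backward.isDefEq.respectTransparency false
set_option backward.isDefEq.respectTransparency.types false

universe u

open CategoryTheory CategoryTheory.Limits AlgebraicGeometry MvPolynomial Topology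

namespace Groth.Agent.FlatCI

theorem topologicalKrullDim_fiber_comp_iso {Y Y' S : Scheme.{u}} (e : Y ≅ Y') (g : Y' ⟶ S) (s : S) :
    topologicalKrullDim ↥((e.hom ≫ g).fiber s) = topologicalKrullDim ↥(g.fiber s) := by
  let h : ↥((e.hom ≫ g).fiber s) ≃ₜ ↥(g.fiber s) :=
    ((e.hom ≫ g).fiberHomeo s).trans (((Scheme.homeoOfIso e).subtype (fun _ => Iff.rfl)).trans (g.fiberHomeo s).symm)
  exact IsHomeomorph.topologicalKrullDim_eq h h.isHomeomorph

theorem isHomogeneous_map {A κ : Type u} [CommRing A] [CommRing κ] (μ : A →+* κ) {N : ℕ}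
    {I : Ideal (MvPolynomial (Fin (N + 1)) A)} (hI : I.IsHomogeneous (CohB1.polyGrading N A)) :
    (I.map (MvPolynomial.map μ)).IsHomogeneous (CohB1.polyGrading N κ) := by
  obtain ⟨T, hT⟩ := (Ideal.IsHomogeneous.iff_exists (CohB1.polyGrading N A) I).mp hI
  rw [hT, Ideal.map_span]
  refine Ideal.homogeneous_span _ _ ?_
  rintro _ ⟨_, ⟨⟨a, d, ha⟩, -, rfl⟩, rfl⟩
  exact ⟨d, ((MvPolynomial.mem_homogeneousSubmodule d a).mp ha).map μ⟩

theorem irrelevant_le_map {R P B : Type u} [CommRing R] [CommRing P] [Algebra R P] [CommRing B] [Algebra R B]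
    (𝒬 : ℕ → Submodule R P) [GradedAlgebra 𝒬] (ℬ : ℕ → Submodule R B) [GradedAlgebra ℬ] (φ : 𝒬 →+*ᵍ ℬ)
    (hφ : Function.Surjective φ) :
    HomogeneousIdeal.irrelevant ℬ ≤ (HomogeneousIdeal.irrelevant 𝒬).map φ := by
  rw [HomogeneousIdeal.irrelevant_le]
  intro n hn b hb
  obtain ⟨a, rfl⟩ := hφ b
  have h := GradedRingHom.map_directSumDecompose 𝒬 ℬ φ (x := a) (i := n)
  rw [DirectSum.decompose_of_mem_same ℬ hb] at h
  rw [← h]
  exact Ideal.mem_map_of_mem _ (HomogeneousIdeal.mem_irrelevant_of_mem _ hn (SetLike.coe_mem _))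

variable {A : Type u} [CommRing A] [IsNoetherianRing A] [IsLocalRing A]

theorem range_residue : IsPreimmersion (Spec.map (CommRingCat.ofHom (algebraMap A (IsLocalRing.ResidueField A)))) ∧
    Set.range (Spec.map (CommRingCat.ofHom (algebraMap A (IsLocalRing.ResidueField A)))).base =
      {IsLocalRing.closedPoint A} := by
  haveI : IsClosedImmersion (Spec.map (CommRingCat.ofHom (algebraMap A (IsLocalRing.ResidueField A)))) :=
    IsClosedImmersion.spec_of_surjective _ IsLocalRing.residue_surjective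
  refine ⟨inferInstance, ?_⟩
  show Set.range (PrimeSpectrum.comap (algebraMap A (IsLocalRing.ResidueField A))) = _
  refine (range_comap_of_surjective _ (algebraMap A (IsLocalRing.ResidueField A))
    IsLocalRing.residue_surjective).trans ?_
  ext s
  rw [PrimeSpectrum.mem_zeroLocus, SetLike.coe_subset_coe]
  rw [show RingHom.ker (algebraMap A (IsLocalRing.ResidueField A)) = IsLocalRing.maximalIdeal A from
    IsLocalRing.ker_residue, Set.mem_singleton_iff]
  exact ⟨fun h => PrimeSpectrum.ext (((IsLocalRing.maximalIdeal.isMaximal A).eq_of_le s.isPrime.ne_top h).symm),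
    fun h => h ▸ le_rfl⟩

set_option maxHeartbeats 1000000 in
/-- The flat envelope. -/
theorem exists_flat_envelope (N n : ℕ) {X : Scheme.{u}}
    (i : X ⟶ CohB1.ProjSpaceOver N (Spec (CommRingCat.of A))) [IsClosedImmersion i]
    (hdim : ∀ s : ↥(Spec (CommRingCat.of A)),
      topologicalKrullDim ↥((i ≫ CohB1.ProjSpaceOver.toBase N (Spec (CommRingCat.of A))).fiber s) ≤ n) :
    ∃ (Z : Scheme.{u}) (j : Z ⟶ CohB1.ProjSpaceOver N (Spec (CommRingCat.of A))) (g : X ⟶ Z),
      IsClosedImmersion j ∧ IsClosedImmersion g ∧ g ≫ j = i ∧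
      Flat (j ≫ CohB1.ProjSpaceOver.toBase N (Spec (CommRingCat.of A))) ∧
      ∀ s : ↥(Spec (CommRingCat.of A)),
        topologicalKrullDim ↥((j ≫ CohB1.ProjSpaceOver.toBase N (Spec (CommRingCat.of A))).fiber s) ≤ n := by
  classical
  obtain ⟨e₀, he₀⟩ := PicGlue.exists_projSpace_iso N A
  let 𝒜 := CohB1.polyGrading N A
  let i' : X ⟶ Proj 𝒜 := i ≫ e₀.inv
  haveI : IsClosedImmersion i' := by
    show IsClosedImmersion (i ≫ e₀.inv)
    infer_instance
  let s₀ : Finset (MvPolynomial (Fin (N + 1)) A) := Finset.univ.image MvPolynomial.X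
  have hs1 : ∀ g ∈ s₀, g ∈ 𝒜 1 := fun g hg => by
    obtain ⟨j, -, rfl⟩ := Finset.mem_image.1 hg
    exact MvPolynomial.isHomogeneous_X _ j
  have hs : (HomogeneousIdeal.irrelevant 𝒜).toIdeal = Ideal.span (s₀ : Set (MvPolynomial (Fin (N + 1)) A)) := by
    rw [show (s₀ : Set (MvPolynomial (Fin (N + 1)) A)) = Set.range MvPolynomial.X by simp [s₀]]
    refine le_antisymm (SegreX.irrelevant_le_span N A) (Ideal.span_le.2 ?_)
    rintro _ ⟨j, rfl⟩
    exact HomogeneousIdeal.mem_irrelevant_of_mem _ one_pos (MvPolynomial.isHomogeneous_X _ j)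
  obtain ⟨B, hB, hAB, ℬ, hℬ, φ, hsurj, hφ, e, he, halg⟩ := Proj16.exists_proj_quotient_alg 𝒜 i' s₀ hs1 hs
  let I : Ideal (MvPolynomial (Fin (N + 1)) A) := RingHom.ker φ
  have hI : I.IsHomogeneous 𝒜 := fun d a ha => by
    show φ _ = 0
    rw [GradedRingHom.map_directSumDecompose 𝒜 ℬ φ, show φ a = 0 from ha, DirectSum.decompose_zero]
    rfl
  let k := IsLocalRing.ResidueField A
  let r := N - n
  have hc : ∀ l : Fin (N + 1), ringKrullDim (MvPolynomial (Fin (N + 1)) k ⧸
      (I.map (MvPolynomial.map (algebraMap A k)) ⊔ Ideal.span {MvPolynomial.X l - 1})) ≤ n := fun l => by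
    refine (chart_le_dim_fibre ℬ φ hsurj halg k l).trans ?_
    obtain ⟨hpre, hrange⟩ := range_residue (A := A)
    rw [← topologicalKrullDim_fiber_eq (structMap ℬ) _ (IsLocalRing.closedPoint A) hrange,
      ← topologicalKrullDim_fiber_comp_iso e (structMap ℬ)]
    refine le_trans (le_of_eq ?_) (hdim (IsLocalRing.closedPoint A))
    have : e.hom ≫ structMap ℬ = i ≫ CohB1.ProjSpaceOver.toBase N (Spec (CommRingCat.of A)) := by
      rw [← map_structMap ℬ φ halg hφ, ← Category.assoc, he]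
      show (i ≫ e₀.inv) ≫ structMap 𝒜 = _
      rw [Category.assoc]
      congr 1
      rw [Iso.inv_comp_eq, he₀]
      rfl
    rw [this]
  obtain ⟨f, e', hf, -, hreg⟩ := exists_regular_forms (k := k) I (isHomogeneous_map _ hI) hI hc r le_rfl
  have hhom : ∀ l < r, (f l).IsHomogeneous (e' l) := fun l hl => (hf l hl).2.1
  have hreg' : ∀ j < r, ∀ a, MvPolynomial.map (algebraMap A k) (f j) * a ∈
      (idealLT f j).map (MvPolynomial.map (algebraMap A k)) →
      a ∈ (idealLT f j).map (MvPolynomial.map (algebraMap A k)) := fun j hj a => by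
    rw [map_idealLT]
    exact hreg j hj a
  let J := idealLT f r
  have hJ : J.IsHomogeneous 𝒜 := idealLT_isHomogeneous f e' r hhom
  have hJI : J ≤ I := Ideal.span_le.mpr fun _ ⟨l, hl⟩ => hl ▸ (hf l l.2).2.2
  let 𝒵 := Proj16.quotGrading 𝒜 J
  letI : GradedAlgebra 𝒵 := Proj16.quotGradedAlgebra 𝒜 J hJ
  let φZ : 𝒜 →+*ᵍ 𝒵 := { Ideal.Quotient.mk J with map_mem := fun {_ _} ha => Proj16.mk_mem_quotGrading 𝒜 J ha }
  have hφZs : Function.Surjective φZ := Ideal.Quotient.mk_surjective
  have hφZ := irrelevant_le_map 𝒜 𝒵 φZ hφZs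
  let ψ : 𝒵 →+*ᵍ ℬ :=
    { Ideal.Quotient.lift J (φ : MvPolynomial (Fin (N + 1)) A →+* B) (fun a ha => hJI ha) with
      map_mem := fun {d x} hx => by
        obtain ⟨a, ha, rfl⟩ := hx
        exact φ.2 ha }
  have hψs : Function.Surjective ψ := fun b => by
    obtain ⟨a, rfl⟩ := hsurj b
    exact ⟨Ideal.Quotient.mk J a, rfl⟩
  have hψ := irrelevant_le_map 𝒵 ℬ ψ hψs
  have hψφ : ψ.comp φZ = φ := GradedRingHom.ext fun a => rfl
  haveI := Proj16.isClosedImmersion_map φZ hφZ hφZs
  haveI := Proj16.isClosedImmersion_map ψ hψ hψs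
  have hAZ : ∀ a : A, φZ (algebraMap A (MvPolynomial (Fin (N + 1)) A) a) =
      algebraMap A (MvPolynomial (Fin (N + 1)) A ⧸ J) a := fun _ => rfl
  have hstr : (Proj.map φZ hφZ ≫ e₀.hom) ≫ CohB1.ProjSpaceOver.toBase N (Spec (CommRingCat.of A)) =
      structMap 𝒵 := by
    rw [Category.assoc, he₀]
    exact map_structMap 𝒵 φZ hAZ hφZ
  refine ⟨Proj 𝒵, Proj.map φZ hφZ ≫ e₀.hom, e.hom ≫ Proj.map ψ hψ, inferInstance, inferInstance, ?_, ?_, fun s => ?_⟩
  · have hmap : ∀ (χ : 𝒜 →+*ᵍ ℬ) (hχ : HomogeneousIdeal.irrelevant ℬ ≤ (HomogeneousIdeal.irrelevant 𝒜).map χ),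
        χ = φ → Proj.map χ hχ = Proj.map φ hφ := by
      rintro χ hχ rfl
      rfl
    rw [Category.assoc, ← Category.assoc (Proj.map ψ hψ), ← Proj.map_comp, hmap _ _ hψφ, ← Category.assoc, he]
    show (i ≫ e₀.inv) ≫ e₀.hom = i
    rw [Category.assoc, Iso.inv_hom_id, Category.comp_id]
  · rw [hstr]
    haveI : Module.Flat A (MvPolynomial (Fin (N + 1)) A ⧸ J) := flat_quotient f e' r hhom hreg'
    exact flat_structMap 𝒵 φZ hφZs hAZ hφZ
  · rw [hstr]
    obtain ⟨hpre, hrange⟩ := range_specMap_residueField s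
    rw [topologicalKrullDim_fiber_eq (structMap 𝒵) _ s hrange]
    refine dim_fibre_le 𝒵 φZ hφZs hAZ _ (fun l => ?_) hφZ
    let μ := MvPolynomial.map (σ := Fin (N + 1)) (algebraMap A s.asIdeal.ResidueField)
    have hker : (RingHom.ker φZ).map μ = idealLT (fun q => μ (f q)) r := by
      rw [show RingHom.ker φZ = J from Ideal.mk_ker]
      exact map_idealLT _ f r
    refine (ringKrullDim_eq_of_ringEquiv (Ideal.quotEquivOfEq
      (congrArg (fun T => T ⊔ Ideal.span {MvPolynomial.X l - 1}) hker))).le.trans ?_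
    have hr : N - min n N = r := by omega
    have key := chart_dim_le (κ := s.asIdeal.ResidueField) (fun q => μ (f q)) e' (min n N)
      (by rw [hr]; exact fun q hq => (hhom q hq).map _)
      (by
        rw [hr]
        intro j hj a ha
        have := regular_of_regular f e' r hhom hreg' (κ := s.asIdeal.ResidueField) hj a
          (by rw [map_idealLT]; exact ha)
        rwa [map_idealLT] at this)
      (min_le_right _ _) l
    rw [hr] at key
    exact key.trans (by exact_mod_cast min_le_left n N)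

end Groth.Agent.FlatCI
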