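import Groth.Agent.FlatCI.Height
import Mathlib.RingTheory.LocalRing.Module

/-!
Forms regular on the closed fibre are regular on every fibre and cut out a flat graded quotient.
-/

set_option autoImplicit false
set_option linter.style.haveILetI false
set_option backward.isDefEq.respectTransparency false
set_option backward.isDefEq.respectTransparency.types false

universe u

open MvPolynomial TensorProduct

namespace Groth.Agent.FlatCI

variable {A : Type u} [CommRing A] {N : ℕ}

local notation "P" => MvPolynomial (Fin (N + 1)) A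

theorem finite_degree_eq (d : ℕ) : {m : Fin (N + 1) →₀ ℕ | m.degree = d}.Finite :=
  (Finsupp.finite_of_degree_le d).subset fun m hm => le_of_eq hm

noncomputable def degBasis (d : ℕ) :
    Module.Basis {m : Fin (N + 1) →₀ ℕ | m.degree = d} A (homogeneousSubmodule (Fin (N + 1)) A d) :=
  (basisRestrictSupport A _).map
    (LinearEquiv.ofEq _ _ (homogeneousSubmodule_eq_finsupp_supported (R := A) (σ := Fin (N + 1)) d).symm)

instance finite_degree (d : ℕ) : Module.Finite A (homogeneousSubmodule (Fin (N + 1)) A d) := by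
  haveI := (finite_degree_eq (N := N) d).to_subtype
  exact Module.Finite.of_basis (degBasis d)

instance free_degree (d : ℕ) : Module.Free A (homogeneousSubmodule (Fin (N + 1)) A d) :=
  Module.Free.of_basis (degBasis d)

/-- The first `j` forms. -/
noncomputable abbrev idealLT (f : ℕ → P) (j : ℕ) : Ideal P := Ideal.span (Set.range fun l : Fin j => f l)

theorem idealLT_succ (f : ℕ → P) (j : ℕ) : idealLT f (j + 1) = idealLT f j ⊔ Ideal.span {f j} := by
  rw [idealLT, idealLT, ← Ideal.span_union]
  congr 1
  ext y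
  constructor
  · rintro ⟨l, rfl⟩
    rcases lt_or_eq_of_le (Nat.le_of_lt_succ l.2) with hl | hl
    · exact Or.inl ⟨⟨l, hl⟩, rfl⟩
    · exact Or.inr (by simp [hl])
  · rintro (⟨l, rfl⟩ | hy)
    · exact ⟨⟨l, by omega⟩, rfl⟩
    · exact ⟨⟨j, by omega⟩, hy.symm⟩

theorem map_idealLT {B : Type u} [CommRing B] (φ : A →+* B) (f : ℕ → P) (j : ℕ) :
    (idealLT f j).map (MvPolynomial.map φ) = Ideal.span (Set.range fun l : Fin j => MvPolynomial.map φ (f l)) := by
  rw [idealLT, Ideal.map_span, ← Set.range_comp]
  rfl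

theorem idealLT_isHomogeneous (f : ℕ → P) (e : ℕ → ℕ) (j : ℕ) (hf : ∀ l < j, (f l).IsHomogeneous (e l)) :
    (idealLT f j).IsHomogeneous (CohB1.polyGrading N A) :=
  Ideal.homogeneous_span _ _ fun _ ⟨l, hl⟩ => hl ▸ ⟨e l, hf l l.2⟩

/-- A graded linear projection with kernel the ideal. -/
structure GrProj (J : Ideal P) where
  ε : P →ₗ[A] P
  zero : ∀ a ∈ J, ε a = 0
  sub : ∀ a, a - ε a ∈ J
  deg : ∀ d, ∀ a ∈ homogeneousSubmodule (Fin (N + 1)) A d, ε a ∈ homogeneousSubmodule (Fin (N + 1)) A d

theorem GrProj.idem {J : Ideal P} (p : GrProj J) (a : P) : p.ε (p.ε a) = p.ε a := by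
  have := p.zero _ (p.sub a)
  rw [map_sub, sub_eq_zero] at this
  exact this.symm

variable [IsLocalRing A]

local notation "k" => IsLocalRing.ResidueField A
local notation "π" => MvPolynomial.map (algebraMap A (IsLocalRing.ResidueField A))

theorem map_eps_eq_zero {J : Ideal P} (p : GrProj J) {a : P} (ha : π a = 0) : π (p.ε a) = 0 := by
  rw [a.as_sum, map_sum, map_sum]
  refine Finset.sum_eq_zero fun m _ => ?_
  have hc : algebraMap A k (coeff m a) = 0 := by
    rw [← coeff_map, ha, coeff_zero]
  rw [show monomial m (coeff m a) = coeff m a • monomial m (1 : A) by rw [smul_monomial, smul_eq_mul, mul_one],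
    map_smul, smul_eq_C_mul, map_mul, MvPolynomial.map_C, hc, map_zero, zero_mul]

theorem map_eq_zero_of_tmul {d : ℕ} (w : homogeneousSubmodule (Fin (N + 1)) A d)
    (h : (1 : k) ⊗ₜ[A] w = 0) : π (w : P) = 0 := by
  ext m
  rw [coeff_map, coeff_zero]
  let φ : homogeneousSubmodule (Fin (N + 1)) A d →ₗ[A] A :=
    (lcoeff A m).comp (homogeneousSubmodule (Fin (N + 1)) A d).subtype
  have h1 := congrArg (fun z => TensorProduct.rid A k (φ.lTensor k z)) h
  simp only [LinearMap.lTensor_tmul, TensorProduct.rid_tmul, map_zero] at h1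
  rw [Algebra.smul_def, mul_one] at h1
  exact h1

theorem tmul_eq_zero_of_map {d : ℕ} (w : homogeneousSubmodule (Fin (N + 1)) A d)
    (h : π (w : P) = 0) : (1 : k) ⊗ₜ[A] w = 0 := by
  have hw : w = ∑ m ∈ (w : P).support.attach,
      coeff m.1 (w : P) • (⟨monomial m.1 (1 : A), isHomogeneous_monomial _ (by
        have := w.2 (mem_support_iff.mp m.2)
        rwa [Finsupp.degree_eq_weight_one])⟩ : homogeneousSubmodule (Fin (N + 1)) A d) := by
    refine Subtype.ext ?_
    rw [Submodule.coe_sum]
    conv_lhs => rw [(w : P).as_sum]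
    rw [← Finset.sum_attach]
    refine Finset.sum_congr rfl fun m _ => ?_
    rw [Submodule.coe_smul, smul_monomial, smul_eq_mul, mul_one]
  rw [hw, TensorProduct.tmul_sum]
  refine Finset.sum_eq_zero fun m _ => ?_
  have hc : algebraMap A k (coeff m.1 (w : P)) = 0 := by rw [← coeff_map, h, coeff_zero]
  rw [TensorProduct.tmul_smul, TensorProduct.smul_tmul', Algebra.smul_def, hc, zero_mul, TensorProduct.zero_tmul]

/-- A left inverse up to `J` of multiplication by `g`, killing `J`. -/
theorem exists_retraction {J : Ideal P} (hJ : J.IsHomogeneous (CohB1.polyGrading N A)) (p : GrProj J) {g : P}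
    {e : ℕ} (hg : g.IsHomogeneous e)
    (hreg : ∀ a, π g * a ∈ J.map π → a ∈ J.map π) :
    ∃ ρ : P →ₗ[A] P, (∀ a ∈ J, ρ a = 0) ∧ (∀ a, ρ (g * a) - a ∈ J) ∧
      ∀ d, ∀ a ∈ homogeneousSubmodule (Fin (N + 1)) A d, g * ρ a ∈ homogeneousSubmodule (Fin (N + 1)) A d := by
  classical
  let Q : ℕ → Submodule A P := fun d => homogeneousSubmodule (Fin (N + 1)) A d
  have hmul : ∀ d, ∀ a ∈ Q d, g * a ∈ Q (d + e) := fun d a ha => by
    rw [mul_comm]; exact IsHomogeneous.mul ha hg
  let Φ : ∀ d, Q d →ₗ[A] Q (d + e) × Q d := fun d =>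
    (LinearMap.codRestrict (Q (d + e)) (p.ε ∘ₗ LinearMap.mulLeft A g ∘ₗ (Q d).subtype)
      fun a => p.deg _ _ (hmul d a a.2)).prod
    (LinearMap.codRestrict (Q d) ((LinearMap.id - p.ε) ∘ₗ (Q d).subtype) fun a => sub_mem a.2 (p.deg _ _ a.2))
  have hsurj : Function.Surjective (π : P → MvPolynomial (Fin (N + 1)) k) :=
    MvPolynomial.map_surjective _ IsLocalRing.residue_surjective
  have hinj : ∀ d, Function.Injective ((Φ d).lTensor k) := by
    intro d
    rw [injective_iff_map_eq_zero]
    intro z hz
    obtain ⟨v, rfl⟩ : ∃ v, (1 : k) ⊗ₜ[A] v = z :=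
      TensorProduct.mk_surjective A (Q d) k IsLocalRing.residue_surjective z
    rw [LinearMap.lTensor_tmul] at hz
    have h1 := congrArg ((LinearMap.fst A (Q (d + e)) (Q d)).lTensor k) hz
    have h2 := congrArg ((LinearMap.snd A (Q (d + e)) (Q d)).lTensor k) hz
    rw [LinearMap.lTensor_tmul, map_zero] at h1 h2
    have e1 : π (p.ε (g * v)) = 0 := map_eq_zero_of_tmul _ h1
    have e2 : π ((v : P) - p.ε v) = 0 := map_eq_zero_of_tmul _ h2
    have hgv : π g * π v ∈ J.map π := by
      have := Ideal.mem_map_of_mem π (p.sub (g * v))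
      rwa [map_sub, e1, sub_zero, map_mul] at this
    obtain ⟨w, hwJ, hw⟩ := (Ideal.mem_map_iff_of_surjective π hsurj).mp (hreg _ hgv)
    have e3 : π (p.ε v) = 0 := by
      have := map_eps_eq_zero p (a := (v : P) - w) (by rw [map_sub, hw, sub_self])
      rwa [map_sub p.ε, p.zero w hwJ, sub_zero] at this
    refine tmul_eq_zero_of_map v ?_
    rw [map_sub, e3, sub_zero] at e2
    exact e2
  choose Ψ hΨ using fun d => (IsLocalRing.split_injective_iff_lTensor_residueField_injective (Φ d)).mpr (hinj d)
  let ρd : ℕ → P →ₗ[A] P := fun d =>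
    p.ε ∘ₗ (Q d).subtype ∘ₗ Ψ d ∘ₗ LinearMap.inl A (Q (d + e)) (Q d) ∘ₗ
      LinearMap.codRestrict (Q (d + e)) (p.ε ∘ₗ homogeneousComponent (d + e))
        fun a => p.deg _ _ (homogeneousComponent_mem _ a)
  let ρ : P →ₗ[A] P := (basisMonomials (Fin (N + 1)) A).constr ℕ fun m =>
    if e ≤ m.degree then ρd (m.degree - e) (monomial m 1) else 0
  have hρm : ∀ m, ρ (monomial m 1) = if e ≤ m.degree then ρd (m.degree - e) (monomial m 1) else 0 := fun m => by
    conv_lhs => rw [show monomial m (1 : A) = basisMonomials (Fin (N + 1)) A m from rfl]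
    exact Module.Basis.constr_basis _ _ _ _
  have hρQ : ∀ D, ∀ c ∈ Q D, ρ c = if e ≤ D then ρd (D - e) c else 0 := by
    intro D c hc
    rw [c.as_sum, map_sum]
    have hterm : ∀ m ∈ c.support, ρ (monomial m (coeff m c)) =
        if e ≤ D then ρd (D - e) (monomial m (coeff m c)) else 0 := fun m hm => by
      have hD : m.degree = D := by
        rw [Finsupp.degree_eq_weight_one]
        exact hc (mem_support_iff.mp hm)
      rw [show monomial m (coeff m c) = coeff m c • monomial m (1 : A) by rw [smul_monomial, smul_eq_mul, mul_one],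
        map_smul, hρm, hD, map_smul]
      split_ifs
      · rfl
      · exact smul_zero _
    rw [Finset.sum_congr rfl hterm]
    split_ifs
    · rw [map_sum]
    · exact Finset.sum_const_zero
  have hρdQ : ∀ d a, ρd d a ∈ Q d := fun d a => p.deg _ _ (Ψ d _).2
  refine ⟨ρ, fun a ha => ?_, fun a => ?_, fun D a ha => ?_⟩
  · rw [← sum_homogeneousComponent a, map_sum]
    refine Finset.sum_eq_zero fun D _ => ?_
    rw [hρQ D _ (homogeneousComponent_mem D a)]
    split_ifs with hD
    · have hcJ : homogeneousComponent D a ∈ J := by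
        have := hJ D ha
        rwa [show ((DirectSum.decompose (CohB1.polyGrading N A) a D : _) : P) = homogeneousComponent D a from
          weightedDecomposition.decompose'_apply _ _ _ _] at this
      show p.ε _ = 0
      have : (LinearMap.codRestrict (Q (D - e + e)) (p.ε ∘ₗ homogeneousComponent (D - e + e))
        (fun a => p.deg _ _ (homogeneousComponent_mem _ a)) (homogeneousComponent D a)) = 0 := by
        refine Subtype.ext ?_
        show p.ε (homogeneousComponent (D - e + e) (homogeneousComponent D a)) = 0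
        rw [homogeneousComponent_of_mem (homogeneousComponent_mem D a), if_pos (Nat.sub_add_cancel hD)]
        exact p.zero _ hcJ
      simp only [LinearMap.comp_apply, this, map_zero]
    · rfl
  · induction a using MvPolynomial.induction_on' with
    | monomial m c =>
      have hmQ : monomial m c ∈ Q m.degree := isHomogeneous_monomial _ rfl
      rw [hρQ _ _ (hmul _ _ hmQ), if_pos (Nat.le_add_left e _), Nat.add_sub_cancel]
      set d := m.degree
      set v : Q d := ⟨p.ε (monomial m c), p.deg _ _ hmQ⟩
      have hΦv : Φ d v = ((LinearMap.codRestrict (Q (d + e)) (p.ε ∘ₗ homogeneousComponent (d + e))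
          (fun a => p.deg _ _ (homogeneousComponent_mem _ a)) (g * monomial m c)), 0) := by
        refine Prod.ext (Subtype.ext ?_) (Subtype.ext ?_)
        · show p.ε (g * p.ε (monomial m c)) = p.ε (homogeneousComponent (d + e) (g * monomial m c))
          rw [homogeneousComponent_of_mem (hmul _ _ hmQ), if_pos rfl]
          have := p.zero _ (J.mul_mem_left g (p.sub (monomial m c)))
          rw [mul_sub, map_sub, sub_eq_zero] at this
          exact this.symm
        · show p.ε (monomial m c) - p.ε (p.ε (monomial m c)) = 0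
          rw [p.idem, sub_self]
      have hΨv := LinearMap.congr_fun (hΨ d) v
      rw [LinearMap.comp_apply, LinearMap.id_apply, hΦv] at hΨv
      have : ρd d (g * monomial m c) = p.ε (monomial m c) := by
        show p.ε ((Ψ d (LinearMap.inl A _ _ _) : Q d) : P) = _
        rw [LinearMap.inl_apply, hΨv]
        exact p.idem _
      rw [this, ← neg_sub]
      exact J.neg_mem (p.sub _)
    | add a b ha hb =>
      rw [mul_add, map_add, add_sub_add_comm]
      exact add_mem ha hb
  · rw [hρQ D a ha]
    split_ifs with hD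
    · have := hmul _ _ (hρdQ (D - e) a)
      rwa [Nat.sub_add_cancel hD] at this
    · rw [mul_zero]
      exact zero_mem _

/-- Graded projections along the forms. -/
theorem exists_proj (f : ℕ → P) (e : ℕ → ℕ) (r : ℕ) (hf : ∀ l < r, (f l).IsHomogeneous (e l))
    (hreg : ∀ j < r, ∀ a, π (f j) * a ∈ (idealLT f j).map π → a ∈ (idealLT f j).map π) (j : ℕ) (hj : j ≤ r) :
    Nonempty (GrProj (idealLT f j)) := by
  induction j with
  | zero =>
    refine ⟨⟨LinearMap.id, fun a ha => ?_, fun a => by simp, fun d a ha => ha⟩⟩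
    simpa [idealLT] using ha
  | succ j ih =>
    obtain ⟨p⟩ := ih (by omega)
    obtain ⟨ρ, hρ0, hρ1, hρ2⟩ := exists_retraction (idealLT_isHomogeneous f e j fun l hl => hf l (by omega)) p
      (hf j hj) (hreg j hj)
    refine ⟨⟨p.ε ∘ₗ (LinearMap.id - LinearMap.mulLeft A (f j) ∘ₗ ρ), fun a ha => ?_, fun a => ?_,
      fun d a ha => p.deg _ _ (sub_mem ha (hρ2 d a ha))⟩⟩
    · rw [idealLT_succ] at ha
      obtain ⟨c, hc, q, hq, rfl⟩ := Submodule.mem_sup.mp ha
      obtain ⟨b, rfl⟩ := Ideal.mem_span_singleton.mp hq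
      show p.ε (c + f j * b - f j * ρ (c + f j * b)) = 0
      rw [map_add ρ, hρ0 c hc, zero_add, add_sub_assoc, map_add, p.zero c hc, zero_add, ← mul_sub]
      refine p.zero _ (Ideal.mul_mem_left _ _ ?_)
      rw [← neg_sub]
      exact Submodule.neg_mem _ (hρ1 b)
    · show a - p.ε (a - f j * ρ a) ∈ _
      rw [idealLT_succ, show a - p.ε (a - f j * ρ a) = (a - f j * ρ a - p.ε (a - f j * ρ a)) + f j * ρ a by ring]
      exact add_mem (Ideal.mem_sup_left (p.sub _))
        (Ideal.mem_sup_right (Ideal.mem_span_singleton.mpr (dvd_mul_right _ _)))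

/-- The quotient is flat over the base. -/
theorem flat_quotient (f : ℕ → P) (e : ℕ → ℕ) (r : ℕ) (hf : ∀ l < r, (f l).IsHomogeneous (e l))
    (hreg : ∀ j < r, ∀ a, π (f j) * a ∈ (idealLT f j).map π → a ∈ (idealLT f j).map π) :
    Module.Flat A (P ⧸ idealLT f r) := by
  obtain ⟨p⟩ := exists_proj f e r hf hreg r le_rfl
  let mk : P →ₗ[A] P ⧸ idealLT f r := (Ideal.Quotient.mkₐ A (idealLT f r)).toLinearMap
  let s : (P ⧸ idealLT f r) →ₗ[A] P :=
    Submodule.liftQ ((idealLT f r).restrictScalars A) p.ε (fun a ha => p.zero a ha) ∘ₗ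
      (Submodule.Quotient.restrictScalarsEquiv A (idealLT f r)).symm.toLinearMap
  refine Module.Flat.of_retract s mk (LinearMap.ext fun y => ?_)
  obtain ⟨a, rfl⟩ := Ideal.Quotient.mk_surjective y
  show Ideal.Quotient.mk _ (p.ε a) = Ideal.Quotient.mk _ a
  rw [Ideal.Quotient.eq, ← neg_sub]
  exact Submodule.neg_mem _ (p.sub a)

/-- Regularity on the closed fibre gives regularity on every fibre. -/
theorem regular_of_regular (f : ℕ → P) (e : ℕ → ℕ) (r : ℕ) (hf : ∀ l < r, (f l).IsHomogeneous (e l))
    (hreg : ∀ j < r, ∀ a, π (f j) * a ∈ (idealLT f j).map π → a ∈ (idealLT f j).map π)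
    {κ : Type u} [CommRing κ] [Algebra A κ] {j : ℕ} (hj : j < r) (a : MvPolynomial (Fin (N + 1)) κ)
    (ha : MvPolynomial.map (algebraMap A κ) (f j) * a ∈ (idealLT f j).map (MvPolynomial.map (algebraMap A κ))) :
    a ∈ (idealLT f j).map (MvPolynomial.map (algebraMap A κ)) := by
  obtain ⟨p⟩ := exists_proj f e r hf hreg j hj.le
  obtain ⟨ρ, hρ0, hρ1, -⟩ := exists_retraction (idealLT_isHomogeneous f e j fun l hl => hf l (by omega)) p
    (hf j hj) (hreg j hj)
  let μ := MvPolynomial.map (σ := Fin (N + 1)) (algebraMap A κ)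
  let J := (idealLT f j).map μ
  let ρ' : MvPolynomial (Fin (N + 1)) κ →ₗ[κ] MvPolynomial (Fin (N + 1)) κ :=
    (basisMonomials (Fin (N + 1)) κ).constr ℕ fun m => μ (ρ (monomial m 1))
  have hρ' : ∀ x, ρ' (μ x) = μ (ρ x) := by
    intro x
    induction x using MvPolynomial.induction_on' with
    | monomial m c =>
      rw [show μ (monomial m c) = algebraMap A κ c • monomial m (1 : κ) by
        rw [smul_monomial, smul_eq_mul, mul_one]; exact MvPolynomial.map_monomial _ _ _,
        map_smul, show ρ' (monomial m (1 : κ)) = μ (ρ (monomial m 1)) from Module.Basis.constr_basis _ _ _ _,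
        show monomial m c = c • monomial m (1 : A) by rw [smul_monomial, smul_eq_mul, mul_one], map_smul,
        smul_eq_C_mul, smul_eq_C_mul, map_mul μ, MvPolynomial.map_C]
    | add x y hx hy => rw [map_add, map_add, hx, hy, map_add, map_add]
  have h0' : ∀ z ∈ J, ∀ c, ρ' (c * z) = 0 := by
    intro z hz
    induction hz using Submodule.span_induction with
    | mem w hw =>
      obtain ⟨x, hx, rfl⟩ := hw
      intro c
      induction c using MvPolynomial.induction_on' with
      | monomial m c =>
        rw [show monomial m c = c • μ (monomial m (1 : A)) by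
            rw [MvPolynomial.map_monomial, map_one, smul_monomial, smul_eq_mul, mul_one],
          smul_mul_assoc, map_smul, ← map_mul μ, hρ', hρ0 _ (Ideal.mul_mem_left _ _ hx), map_zero, smul_zero]
      | add c c' hc hc' => rw [add_mul, map_add, hc, hc', add_zero]
    | zero => intro c; rw [mul_zero, map_zero]
    | add x y _ _ hx hy => intro c; rw [mul_add, map_add, hx, hy, add_zero]
    | smul d y _ hy =>
      intro c
      rw [smul_eq_mul, ← mul_assoc]
      exact hy (c * d)
  have h0 : ∀ z ∈ J, ρ' z = 0 := fun z hz => by simpa using h0' z hz 1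
  have h1 : ∀ x, ρ' (μ (f j) * x) - x ∈ J := by
    intro x
    induction x using MvPolynomial.induction_on' with
    | monomial m c =>
      rw [show monomial m c = c • μ (monomial m (1 : A)) by
          rw [MvPolynomial.map_monomial, map_one, smul_monomial, smul_eq_mul, mul_one],
        mul_smul_comm, map_smul, ← map_mul μ, hρ', ← smul_sub, ← map_sub μ, smul_eq_C_mul]
      exact Ideal.mul_mem_left _ _ (Ideal.mem_map_of_mem μ (hρ1 _))
    | add x y hx hy =>
      rw [mul_add, map_add, add_sub_add_comm]
      exact add_mem hx hy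
  have := h1 a
  rw [h0 _ ha, zero_sub] at this
  exact neg_mem_iff.mp this

end Groth.Agent.FlatCI
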